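import Cfsg.Agent.LyOut.Fix

/-! The stabiliser of a point has trivial centraliser. -/

set_option autoImplicit false
set_option linter.style.haveILetI false
set_option maxRecDepth 100000

namespace CfsgLib.LyOut

open CfsgLib.CosetEnum CfsgLib.LyG2 CfsgLib.LyCert Subgroup

theorem level_exact {L : Level} (h : okLevel L = true)
    (hcard : Nat.card (wGroup L.gens) ≤ L.orb.length * Nat.card (wGroup L.next)) {z : P}
    (hz : z ∈ wGroup L.gens) (hzb : ∀ q : Pt, q.val = L.b → act z q = q) :
    z ∈ wGroup L.next := by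
  simp only [okLevel, Bool.and_eq_true, Nat.blt_eq] at h
  obtain ⟨hb, hlow, hlen, hnode, hord, hnext⟩ := h
  have hlen := Nat.eq_of_beq_eq_true hlen
  let b : Pt := ⟨L.b, hb⟩
  have hgen : ∀ k < L.gens.length, prodw pl (L.gens.getD k []) ∈ wGroup L.gens ∧
      ∀ x ∈ L.gens.getD k [], x < 16 := fun k hk => by
    rw [List.getD_eq_getElem _ _ hk]
    exact ⟨wGroup_mono (List.getElem_mem hk), lt_of_low (List.all_eq_true.1 hlow _ (List.getElem_mem hk))⟩
  have hreach : ∀ j < L.orb.length, ∃ s ∈ wGroup L.gens,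
      ((act s)⁻¹ b).val = (L.orb.getD j (0, 0, 0)).1 := by
    intro j
    induction j using Nat.strong_induction_on with
    | _ j ih =>
      intro hj
      have h := List.all_eq_true.1 hnode j (List.mem_range.2 hj)
      simp only [okNode] at h
      cases h0 : Nat.beq j 0
      · simp only [h0, cond_false, Bool.and_eq_true, Nat.blt_eq] at h
        obtain ⟨hp, hk, hw⟩ := h
        obtain ⟨s, hs, hv⟩ := ih _ hp (lt_trans hp hj)
        obtain ⟨hm, hl⟩ := hgen _ hk
        refine ⟨s * prodw pl (L.gens.getD (L.orb.getD j (0, 0, 0)).2.2 []), mul_mem hs hm, ?_⟩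
        rw [map_mul, mul_inv_rev, Equiv.Perm.mul_apply, act_word hl, hv]
        exact Nat.eq_of_beq_eq_true hw
      · simp only [h0, cond_true] at h
        exact ⟨1, one_mem _, by simpa [b] using (Nat.eq_of_beq_eq_true h).symm⟩
  have hstab : ∀ y ∈ wGroup L.next, y ∈ wGroup L.gens ∧ (act y)⁻¹ b = b := by
    intro y hy
    induction hy using closure_induction with
    | mem y hy =>
      obtain ⟨w, hw, rfl⟩ := hy
      obtain ⟨t, ht, rfl⟩ := List.getElem_of_mem hw
      have h := List.all_eq_true.1 hnext t (List.mem_range.2 ht)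
      simp only [okNext, List.getD_eq_getElem _ _ ht, Bool.and_eq_true] at h
      obtain ⟨hks, he, hwb⟩ := h
      refine ⟨?_, Fin.ext ?_⟩
      · rw [eqW_pl he, prodw, List.map_flatten, List.map_map, List.prod_flatten, List.map_map]
        refine Subgroup.list_prod_mem _ ?_
        intro y hy
        obtain ⟨k, hk, rfl⟩ := List.mem_map.1 hy
        exact (hgen k (Nat.le_of_ble_eq_true (List.all_eq_true.1 hks k hk))).1
      · simp only [eqW, Bool.and_eq_true] at he
        rw [act_word (lt_of_low he.1)]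
        exact Nat.eq_of_beq_eq_true hwb
    | one => exact ⟨one_mem _, by simp⟩
    | mul y y' _ _ h h' =>
      exact ⟨mul_mem h.1 h'.1, by rw [map_mul, mul_inv_rev, Equiv.Perm.mul_apply, h.2, h'.2]⟩
    | inv y _ h =>
      refine ⟨inv_mem h.1, ?_⟩
      conv_lhs => rw [← h.2]
      simp
  choose σ hσ hv using fun t : Fin L.order.length =>
    hreach (L.order.getD t 0) (Nat.le_of_ble_eq_true
      (Bool.and_eq_true_iff.1 (List.all_eq_true.1 hord t (List.mem_range.2 t.isLt))).1)
  have hmono : StrictMono fun t : Fin L.order.length => ordPt L t := by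
    have h1 : ∀ t, t + 1 < L.order.length → ordPt L t < ordPt L (t + 1) := by
      intro t ht
      have h := (Bool.and_eq_true_iff.1 (List.all_eq_true.1 hord (t + 1) (List.mem_range.2 ht))).2
      simpa [Nat.blt_eq] using h
    rintro ⟨s, hs⟩ ⟨t, ht⟩ hst
    induction t with
    | zero => exact absurd (show s < 0 from hst) (Nat.not_lt_zero s)
    | succ t ih =>
      have hst' : s < t + 1 := hst
      rcases Nat.lt_succ_iff_lt_or_eq.1 hst' with h | h
      · exact lt_trans (ih (by omega) h) (h1 t ht)
      · subst h; exact h1 s ht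
  let St : Subgroup P := wGroup L.gens ⊓ (MulAction.stabilizer (Equiv.Perm Pt) b).comap act
  have hSt : ∀ y ∈ St, (act y)⁻¹ b = b := fun y hy => by
    rw [Equiv.Perm.inv_eq_iff_eq]; exact (show act y b = b from hy.2).symm
  let f : Fin L.order.length × St → wGroup L.gens := fun p =>
    ⟨p.2.1 * σ p.1, mul_mem p.2.2.1 (hσ p.1)⟩
  have hf : Function.Injective f := by
    rintro ⟨t, y⟩ ⟨t', y'⟩ he
    have e := congrArg (fun z : wGroup L.gens => ((act z.1)⁻¹ b).val) he
    simp only [f, map_mul, mul_inv_rev, Equiv.Perm.mul_apply, hSt _ y.2, hSt _ y'.2, hv] at e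
    obtain rfl : t = t' := hmono.injective e
    exact Prod.ext rfl (Subtype.ext (mul_right_cancel (Subtype.ext_iff.1 he)))
  have h1 := Nat.card_le_card_of_injective f hf
  rw [Nat.card_prod, Nat.card_fin, hlen] at h1
  have hle : wGroup L.next ≤ St := fun y hy =>
    ⟨(hstab y hy).1, ((Equiv.Perm.inv_eq_iff_eq).1 (hstab y hy).2).symm⟩
  have hpos : 0 < L.orb.length :=
    Nat.pos_of_mul_pos_right (lt_of_lt_of_le Nat.card_pos hcard)
  rw [eq_of_le_of_card_ge hle (Nat.le_of_mul_le_mul_left (h1.trans hcard) hpos)]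
  exact ⟨hz, hzb b rfl⟩

theorem chain_exact : ∀ (Ls : List Level) (gs : List (List ℕ)), okChain Ls gs = true →
    Nat.card (wGroup gs) ≤ chainSize Ls → (Ls.getLast?.map fun L => L.next) = some [] →
    ∀ z ∈ wGroup gs, (∀ L ∈ Ls, ∀ q : Pt, q.val = L.b → act z q = q) → z = 1
  | [], _, _, _, hl, _, _, _ => by simp at hl
  | L :: Ls, gs, h, hc, hl, z, hz, hfix => by
    simp only [okChain, Bool.and_eq_true, decide_eq_true_eq] at h
    obtain ⟨rfl, hL, hr⟩ := h
    simp only [chainSize, List.map_cons, List.prod_cons] at hc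
    have hsz : Nat.card (wGroup L.gens) ≤ L.orb.length * Nat.card (wGroup L.next) :=
      hc.trans (Nat.mul_le_mul_left _ (chain_bound Ls _ hr))
    have hz' := level_exact hL hsz hz (hfix L List.mem_cons_self)
    cases Ls with
    | nil =>
      simp at hl
      rw [hl] at hz'
      rw [wGroup, show {x : P | ∃ w ∈ ([] : List (List ℕ)), x = prodw pl w} = ∅ from by
        ext x; simp, Subgroup.closure_empty, Subgroup.mem_bot] at hz'
      exact hz'
    | cons L' Ls =>
      refine chain_exact (L' :: Ls) L.next hr ?_ (by simpa using hl) z hz' fun M hM =>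
        hfix M (List.mem_cons_of_mem _ hM)
      have := level_bound hL
      exact Nat.le_of_mul_le_mul_left (this.trans hc)
        (Nat.pos_of_mul_pos_right (lt_of_lt_of_le Nat.card_pos hc))

/-- The centraliser of the point stabiliser is trivial. -/
theorem centralizer_M0 (hlow : 51765179004000000 ∣ Nat.card Cfsg.Spor.Ly) {h : P}
    (hc : ∀ m ∈ M0, h * m = m * h) : h = 1 := by
  have hm : ∀ m ∈ M0, ∀ q : Pt, act m q = q → act m (act h q) = act h q := fun m hm q e => by
    rw [← Equiv.Perm.mul_apply, ← map_mul, ← hc m hm, map_mul, Equiv.Perm.mul_apply, e]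
  have h0 : act h 0 = 0 := by
    have hf : Fixed V1P (act h 0) := fun v hv => hm v (V1P_le_M0 hv) 0 (mem_M0.1 (V1P_le_M0 hv))
    have hlt := fixed_V1_lt hf
    by_contra hne
    have hne' : (act h 0).val ≠ 0 := fun e => hne (Fin.ext e)
    have := List.all_eq_true.1 fixM _ (show (act h 0).val ∈ [1, 2, 3, 4] by
      simp only [List.mem_cons, List.not_mem_nil, or_false]; omega)
    obtain ⟨k, hk, e⟩ := List.any_eq_true.1 this
    obtain ⟨hl, -, hkM⟩ := mW_spec (List.mem_range.1 hk)
    rw [(act_fix_iff hl _).1 (hm _ hkM 0 (mem_M0.1 hkM))] at e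
    simp at e
  refine chain_exact chain0 mList chain0_ok ?_ chain0_last h ?_ fun L hL q hq => ?_
  · rw [show chainSize chain0 = 300000 by decide +kernel, wGroup_mList, card_M0 hlow]
  · rw [wGroup_mList]; exact mem_M0.2 h0
  · have := List.all_eq_true.1 chain0_bs L.b (List.mem_map.2 ⟨L, hL, rfl⟩)
    obtain ⟨c, hcw, e⟩ := List.any_eq_true.1 this
    have e := Nat.eq_of_beq_eq_true e
    have h1 := List.all_eq_true.1 cw_ok c hcw
    simp only [Bool.and_eq_true, Nat.blt_eq, Bool.not_eq_true', fixes_eq, List.mem_map,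
      forall_exists_index, and_imp, forall_apply_eq_imp_iff₂, List.all_eq_true] at h1
    obtain ⟨-, hb0, hk, hfx, hall⟩ := h1
    have hP : ∀ l : List (ℕ × Bool), (∀ p ∈ l, p.1 < 8) →
        (∀ x ∈ mProd l, x < 16) ∧ prodw pl (mProd l) ∈ M0 := by
      intro l
      induction l with
      | nil => exact fun _ => ⟨by simp [mProd], by simpa [mProd, prodw] using one_mem M0⟩
      | cons p l ih =>
        intro hl
        obtain ⟨i1, i2⟩ := ih fun x hx => hl x (List.mem_cons_of_mem p hx)
        obtain ⟨m1, -, m3⟩ := mW_spec (hl p List.mem_cons_self)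
        rw [show mProd (p :: l) = (bif p.2 then mW p.1 else wi (mW p.1)) ++ mProd l from rfl,
          prodw_append]
        cases p.2 <;> simp only [cond_true, cond_false, List.mem_append]
        · exact ⟨fun x hx => hx.elim (wi_low m1 x) (i1 x),
            mul_mem (by rw [prodw_pl_wi m1]; exact inv_mem m3) i2⟩
        · exact ⟨fun x hx => hx.elim (m1 x) (i1 x), mul_mem m3 i2⟩
    have hfix : fixes (c.2.map mProd) (act h q).val = true := by
      rw [fixes_eq]
      intro w hw
      obtain ⟨l, hl, rfl⟩ := List.mem_map.1 hw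
      obtain ⟨p1, p2⟩ := hP l fun p hp => Nat.le_of_ble_eq_true (List.all_eq_true.1
        (List.all_eq_true.1 (List.all_eq_true.2 fun l hl => List.all_eq_true.2 fun p hp =>
          Nat.ble_eq_true_of_le (hk l hl p hp)) l hl) p hp)
      refine (act_fix_iff p1 _).1 (hm _ p2 q ((act_fix_iff p1 q).2 ?_))
      rw [hq, ← e]
      exact hfx l hl
    have h2 := allR_pt (f := fun q => !(Nat.blt q 19530 && fixes (c.2.map mProd) q) ||
      (Nat.beq q 0 || Nat.beq q c.1)) hall (act h q)
    rw [blt_pt, hfix] at h2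
    simp only [Bool.and_self, Bool.not_true, Bool.false_or, Bool.or_eq_true] at h2
    rcases h2 with h2 | h2
    · exfalso
      have hz : act h q = act h 0 := (Fin.ext (Nat.eq_of_beq_eq_true h2)).trans h0.symm
      rw [(act h).injective hz] at hq
      rw [← e] at hq
      simp [← hq] at hb0
    · exact Fin.ext (by rw [Nat.eq_of_beq_eq_true h2, e, ← hq])

end CfsgLib.LyOut
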