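import Cfsg.Agent.LyOut.Data

/-! The checks of the data. -/

set_option autoImplicit false
set_option maxRecDepth 100000

namespace CfsgLib.LyOut

open CfsgLib.CosetEnum CfsgLib.LyG2 CfsgLib.LyCert

/-- The word of a root element. -/
def gW (i : ℕ) : List ℕ := gR.getD i []

/-- A power of a word. -/
def pw (n : ℕ) (w : List ℕ) : List ℕ := (List.replicate n w).flatten

/-- The word of an exponent vector. -/
def nf (e : List ℕ) : List ℕ := ((List.range 6).map fun i => pw (e.getD i 0) (gW i)).flatten

/-- A word is the normal form with no entries below `k`. -/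
def okIn (k : ℕ) (w e : List ℕ) : Bool :=
  (List.range k).all (fun i => Nat.beq (e.getD i 0) 0) && eqW w (nf e)

/-- A word is the normal form in the second radical. -/
def okV2 (w e : List ℕ) : Bool := Nat.beq (e.getD 1 0) 0 && eqW w (nf e)

/-- A conjugate. -/
def cj (g x : List ℕ) : List ℕ := g ++ x ++ wi g

/-- A commutator. -/
def cm (x y : List ℕ) : List ℕ := x ++ y ++ wi x ++ wi y

/-- The entry of the conjugation table. -/
def cE' (k l : ℕ) : List ℕ := cT.getD (6 * k + l) []

/-- The exponent triangle used for the class of the radicals. -/
def okShape (k l : ℕ) : Bool :=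
  Nat.beq ((cE' k l).getD l 0) 1 &&
    ((List.range 6).all fun i => Nat.beq i l || (bif Nat.blt i (bif Nat.beq k 0 then 3 else 5)
      then Nat.beq ((cE' k l).getD i 0) 0 else true))

theorem gR_low : gR.all low = true := by decide +kernel

theorem conj_ok : (List.range 6).all (fun l => (List.range l).all fun k =>
    okIn (k + 1) (cj (gW k) (gW l)) (cE' k l)) = true := by decide +kernel

theorem shape_ok : (List.range 6).all (fun l => (List.range l).all fun k =>
    Nat.beq l 1 || okShape k l) = true := by decide +kernel

theorem pow_ok : (List.range 6).all (fun k => eqW (pw 5 (gW k)) []) = true := by decide +kernel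

/-- A finite set of points invariant under the later elements, not under this one. -/
noncomputable def okWit (k : ℕ) : Bool :=
  let O := wit.getD k []
  O.all (fun o => Nat.blt o 19530 &&
      (List.range 6).all fun l => Nat.ble l k || O.contains (walk (gW l) o)) &&
    (!O.isEmpty && !O.contains (walk (gW k) (O.headD 0)))

theorem wit_ok : (List.range 6).all okWit = true := by decide +kernel

theorem u_ok : eqW (cj [0, 0] (gW 0)) (gW 0) = true ∧
    eqW (cj [0, 0] (gW 1)) (gW 1 ++ gW 1) = true := by decide +kernel

theorem b_eq : gW 0 = [2] := by decide +kernel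

theorem c_ok : okIn 2 [4] cE = true := by decide +kernel

theorem a_ok : (List.range 5).all (fun i => okIn 1 (cj [0] (gW (i + 1))) (nT.getD i [])) = true := by
  decide +kernel

/-- The indices of the generators of the second radical. -/
def ix : List ℕ := [0, 2, 3, 4, 5]

theorem e_ok : (List.range 5).all (fun i => okV2 (cj [8] (gW (ix.getD i 0))) (eT.getD i [])) = true := by
  decide +kernel

theorem m_ok : (List.range 8).all (fun k => (List.range 5).all fun i =>
    okIn 1 (cj (mW k) (gW (i + 1))) ((mT.getD k []).getD i [])) = true := by decide +kernel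

theorem mz_ok : (List.range 4).all (fun k => okIn 1 (mzW k) (mzT.getD k [])) = true := by
  decide +kernel

theorem v1_letters : (List.range 5).all (fun i => (gW (i + 1)).all fun x =>
    (List.range 4).any fun k => decide (mW k = [x])) = true := by decide +kernel

/-- The generators of the normaliser of the first radical. -/
def nGen (k : ℕ) : List ℕ := bif Nat.blt k 8 then mW k else gW 0

/-- The representative. -/
def rep (j : ℕ) : List ℕ := reps.getD j []

theorem tr_ok : (List.range 9).all (fun k => (List.range 6).all fun i =>
    let t := (tr.getD k []).getD i (0, 0)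
    Nat.blt t.1 6 && (Nat.blt t.2 bl.length &&
      eqW (nGen k ++ rep i) (rep t.1 ++ bl.getD t.2 []))) = true := by decide +kernel

theorem bl_ok : (List.range bl.length).all (fun j =>
    okIn 0 (cj (bl.getD j []) (gW 1)) ((blT.getD j []).getD 1 []) &&
      (List.range 5).all fun i =>
        okV2 (cj (bl.getD j []) (gW (ix.getD i 0))) ((blT.getD j []).getD (ix.getD i 0) [])) = true := by
  decide +kernel

theorem rep_ok : (List.range 5).all (fun j =>
    let y := wi (rep (j + 1)) ++ [2] ++ rep (j + 1)
    let q := dq.getD j 0
    low (rep (j + 1)) && (Nat.blt q 5 && !Nat.beq (walk ([2] ++ y) q) (walk (y ++ [2]) q))) = true := by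
  decide +kernel

/-- The iterated commutator showing that the second radical has class greater than two. -/
def dW : List ℕ := cm (cm (gW 0) (gW 2)) (gW 0)

theorem d_ok : (Nat.blt dpt 19530 && !Nat.beq (walk dW dpt) dpt) = true := by decide +kernel

/-- All the words fix the point. -/
noncomputable def fixes (ws : List (List ℕ)) (q : ℕ) : Bool :=
  ws.all fun w => Nat.beq (walk w q) q

theorem fix1 : allR (fun q => !(Nat.blt q 19530 && fixes ((List.range 5).map fun i => gW (i + 1)) q)
    || Nat.blt q 5) 15 0 = true := by decide +kernel

theorem fix1' : (List.range 5).all (fun q => fixes ((List.range 5).map fun i => gW (i + 1)) q &&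
    Nat.beq (walk (wi (pw (orb.getD q 0) [2])) 0) q) = true := by decide +kernel

theorem fix2 : allR (fun q => !(Nat.blt q 19530 && fixes (ix.map gW) q)) 15 0 = true := by
  decide +kernel

/-- The generators of an index five subgroup of the unipotent group. -/
def wGens (i : ℕ) : List (List ℕ) :=
  (gW 1 ++ pw i (gW 0)) :: (List.range 4).map fun l => gW (l + 2)

theorem fixW : [1, 2, 3, 4].all (fun i =>
    allR (fun q => !(Nat.blt q 19530 && fixes (wGens i) q)) 15 0) = true := by decide +kernel

theorem fixM : [1, 2, 3, 4].all (fun q =>
    (List.range 8).any fun k => !Nat.beq (walk (mW k) q) q) = true := by decide +kernel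

theorem h_ok : (List.range 6).all (fun j => low (hW.getD j []) && (List.range 5).all fun i =>
    okV2 (cj (hW.getD j []) (gW (ix.getD i 0))) ((hT.getD j []).getD i [])) = true := by decide +kernel

/-- A product of generators of the stabiliser of `0` and their inverses. -/
def mProd (l : List (ℕ × Bool)) : List ℕ :=
  (l.map fun p => bif p.2 then mW p.1 else wi (mW p.1)).flatten

theorem cw_ok : cw.all (fun c => Nat.blt c.1 19530 && (!Nat.beq c.1 0 &&
    (c.2.all (fun l => l.all fun p => Nat.blt p.1 8) &&
      (fixes (c.2.map mProd) c.1 &&
        allR (fun q => !(Nat.blt q 19530 && fixes (c.2.map mProd) q) ||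
          (Nat.beq q 0 || Nat.beq q c.1)) 15 0)))) = true := by decide +kernel

theorem chain0_bs : (chain0.map fun L => L.b).all (fun b => cw.any fun c => Nat.beq c.1 b) = true := by
  decide +kernel

theorem chain0_last : (chain0.getLast?.map fun L => L.next) = some [] := by decide +kernel

end CfsgLib.LyOut
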