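import Cfsg.Agent.LyCert.Index

/-! Data for the automorphisms of `Ly`: the unipotent group, the parabolic subgroups and their cosets
(generated data; exponents are with respect to the root elements `7, 6, 8, 9, 10, 11`). -/

set_option autoImplicit false
set_option maxRecDepth 100000

namespace CfsgLib.LyOut

/-- The words of the positive root elements. -/
def gR : List (List ℕ) := [[2],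
    [10, 10, 14],
    [14],
    [4, 14, 14, 12, 14],
    [4, 4, 12, 12, 12, 14, 14, 14, 12, 14],
    [4, 4, 4, 4, 10, 10, 4, 10, 10, 10]]

/-- Exponents of conjugates of root elements by earlier ones. -/
def cT : List (List ℕ) := [[],
    [0, 1, 4, 1, 1, 1],
    [0, 0, 1, 3, 2, 3],
    [0, 0, 0, 1, 3, 0],
    [0, 0, 0, 0, 1, 0],
    [0, 0, 0, 0, 0, 1],
    [],
    [],
    [0, 0, 1, 0, 0, 0],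
    [0, 0, 0, 1, 0, 0],
    [0, 0, 0, 0, 1, 1],
    [0, 0, 0, 0, 0, 1],
    [],
    [],
    [],
    [0, 0, 0, 1, 0, 3],
    [0, 0, 0, 0, 1, 0],
    [0, 0, 0, 0, 0, 1],
    [],
    [],
    [],
    [],
    [0, 0, 0, 0, 1, 0],
    [0, 0, 0, 0, 0, 1],
    [],
    [],
    [],
    [],
    [],
    [0, 0, 0, 0, 0, 1],
    [],
    [],
    [],
    [],
    [],
    []]

/-- For each root element, a set of points invariant under the later ones. -/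
def wit : List (List ℕ) := [[0],
    [10, 11, 12, 13, 14],
    [10],
    [40, 236, 251, 277, 1442],
    [40],
    [5]]

/-- Exponents of the conjugates by `a` of the generators of the first radical. -/
def nT : List (List ℕ) := [[0, 4, 4, 4, 1, 4],
    [0, 4, 2, 0, 2, 1],
    [0, 3, 0, 3, 3, 3],
    [0, 3, 1, 2, 1, 3],
    [0, 0, 0, 0, 0, 3]]

/-- Exponents of the conjugates by `e` of the generators of the second radical. -/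
def eT : List (List ℕ) := [[0, 0, 3, 3, 4, 0],
    [2, 0, 0, 1, 2, 1],
    [0, 0, 0, 4, 4, 3],
    [0, 0, 0, 0, 0, 2],
    [0, 0, 0, 0, 3, 0]]

/-- Exponents of `c`. -/
def cE : List ℕ := [0, 0, 1, 2, 2, 2]

/-- Exponents of the conjugates by the stabiliser of a point. -/
def mT : List (List (List ℕ)) := [[[0, 1, 0, 0, 0, 3], [0, 0, 1, 0, 0, 4], [0, 0, 0, 1, 0, 3], [0, 0, 0, 0, 1, 0], [0, 0, 0, 0, 0, 1]],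
    [[0, 1, 0, 0, 0, 0], [0, 0, 1, 0, 0, 0], [0, 0, 0, 1, 0, 1], [0, 0, 0, 0, 1, 3], [0, 0, 0, 0, 0, 1]],
    [[0, 1, 0, 0, 0, 2], [0, 0, 1, 0, 0, 3], [0, 0, 0, 1, 0, 3], [0, 0, 0, 0, 1, 0], [0, 0, 0, 0, 0, 1]],
    [[0, 1, 0, 0, 0, 0], [0, 0, 1, 0, 0, 0], [0, 0, 0, 1, 0, 3], [0, 0, 0, 0, 1, 0], [0, 0, 0, 0, 0, 1]],
    [[0, 1, 0, 0, 0, 0], [0, 0, 1, 0, 0, 0], [0, 0, 0, 1, 0, 0], [0, 0, 0, 0, 1, 0], [0, 0, 0, 0, 0, 1]],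
    [[0, 4, 4, 4, 1, 4], [0, 4, 2, 0, 2, 1], [0, 3, 0, 3, 3, 3], [0, 3, 1, 2, 1, 3], [0, 0, 0, 0, 0, 3]],
    [[0, 3, 2, 3, 3, 4], [0, 1, 3, 3, 4, 2], [0, 4, 3, 2, 4, 3], [0, 3, 3, 3, 2, 1], [0, 0, 0, 0, 0, 3]],
    [[0, 0, 0, 0, 4, 0], [0, 0, 0, 3, 0, 0], [0, 0, 4, 0, 0, 0], [0, 3, 0, 0, 0, 0], [0, 0, 0, 0, 0, 3]]]

/-- Exponents of the images under conjugation by `z`. -/
def mzT : List (List ℕ) := [[0, 0, 0, 0, 1, 0],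
    [0, 1, 2, 4, 2, 2],
    [0, 3, 4, 0, 0, 0],
    [0, 2, 3, 4, 1, 1]]

/-- Coset representatives of the normaliser of the unipotent group in that of the first radical. -/
def reps : List (List ℕ) := [[],
    [0],
    [2, 0],
    [0, 2, 0],
    [3, 0],
    [0, 3, 0]]

/-- Elements normalising the unipotent group. -/
def bl : List (List ℕ) := [[4],
    [1, 4, 0],
    [1, 3, 4, 2, 0],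
    [1, 3, 1, 4, 0, 2, 0],
    [1, 2, 4, 3, 0],
    [1, 2, 1, 4, 0, 3, 0],
    [10],
    [1, 10, 0],
    [1, 3, 10, 2, 0],
    [1, 3, 1, 10, 0, 2, 0],
    [1, 2, 10, 3, 0],
    [1, 2, 1, 10, 0, 3, 0],
    [12],
    [1, 12, 0],
    [1, 3, 12, 2, 0],
    [1, 3, 1, 12, 0, 2, 0],
    [1, 2, 12, 3, 0],
    [1, 2, 1, 12, 0, 3, 0],
    [14],
    [1, 14, 0],
    [1, 3, 14, 2, 0],
    [1, 3, 1, 14, 0, 2, 0],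
    [1, 2, 14, 3, 0],
    [1, 2, 1, 14, 0, 3, 0],
    [5, 11, 4, 10],
    [1, 5, 11, 4, 10, 0],
    [1, 3, 5, 11, 4, 10, 2, 0],
    [1, 3, 1, 5, 11, 4, 10, 0, 2, 0],
    [1, 2, 5, 11, 4, 10, 3, 0],
    [1, 2, 1, 5, 11, 4, 10, 0, 3, 0],
    [],
    [0, 0],
    [1, 3, 0, 0, 2, 0],
    [1, 2, 0, 0, 3, 0],
    [3],
    [1, 2, 2, 0, 3, 0],
    [2, 0, 0],
    [1, 2, 1, 2, 0, 3, 0, 2, 0],
    [1, 2, 0, 3, 3, 0],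
    [1, 3, 1, 2, 0, 3, 0, 3, 0],
    [1, 3, 1, 2, 2, 0, 3, 3],
    [2, 2, 0, 3, 3, 0, 2, 0],
    [1, 2, 1, 2, 2, 0, 3, 3, 3, 0],
    [1, 2, 2, 2, 0, 3, 3, 0, 3, 0],
    [2],
    [1, 3, 1, 2, 2, 0],
    [1, 2, 1, 2, 0, 2, 0]]

/-- Multiplication of representatives by generators: coset and element. -/
def tr : List (List (ℕ × ℕ)) := [[(0, 0), (1, 1), (2, 2), (3, 3), (4, 4), (5, 5)],[(0, 6), (1, 7), (2, 8), (3, 9), (4, 10), (5, 11)],[(0, 12), (1, 13), (2, 14), (3, 15), (4, 16), (5, 17)],[(0, 18), (1, 19), (2, 20), (3, 21), (4, 22), (5, 23)],[(0, 24), (1, 25), (2, 26), (3, 27), (4, 28), (5, 29)],[(1, 30), (0, 31), (3, 30), (2, 32), (5, 30), (4, 33)],[(2, 34), (4, 35), (0, 36), (5, 37), (1, 38), (3, 39)],[(3, 40), (2, 38), (1, 35), (0, 41), (5, 42), (4, 43)],[(0, 44),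 (2, 30), (3, 45), (5, 46), (1, 30), (4, 35)]]

/-- Exponents of the conjugates by `bl`. -/
def blT : List (List (List ℕ)) := [[[1, 0, 0, 2, 1, 3], [0, 1, 0, 0, 0, 3], [0, 0, 1, 0, 0, 4], [0, 0, 0, 1, 0, 3], [0, 0, 0, 0, 1, 0], [0, 0, 0, 0, 0, 1]],
    [[1, 0, 3, 2, 1, 1], [0, 1, 0, 0, 0, 0], [0, 0, 1, 0, 0, 0], [0, 0, 0, 1, 0, 1], [0, 0, 0, 0, 1, 3], [0, 0, 0, 0, 0, 1]],
    [[1, 0, 0, 0, 3, 0], [0, 1, 0, 0, 0, 4], [0, 0, 1, 0, 0, 3], [0, 0, 0, 1, 0, 0], [0, 0, 0, 0, 1, 0], [0, 0, 0, 0, 0, 1]],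
    [[1, 0, 3, 1, 0, 4], [0, 1, 0, 0, 0, 0], [0, 0, 1, 0, 0, 0], [0, 0, 0, 1, 0, 2], [0, 0, 0, 0, 1, 3], [0, 0, 0, 0, 0, 1]],
    [[1, 0, 2, 4, 0, 4], [0, 1, 0, 0, 0, 4], [0, 0, 1, 0, 0, 0], [0, 0, 0, 1, 0, 3], [0, 0, 0, 0, 1, 2], [0, 0, 0, 0, 0, 1]],
    [[1, 0, 3, 0, 2, 0], [0, 1, 0, 0, 0, 0], [0, 0, 1, 0, 0, 3], [0, 0, 0, 1, 0, 3], [0, 0, 0, 0, 1, 3], [0, 0, 0, 0, 0, 1]],
    [[1, 0, 3, 2, 1, 1], [0, 1, 0, 0, 0, 0], [0, 0, 1, 0, 0, 0], [0, 0, 0, 1, 0, 1], [0, 0, 0, 0, 1, 3], [0, 0, 0, 0, 0, 1]],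
    [[1, 0, 0, 1, 3, 2], [0, 1, 0, 0, 0, 4], [0, 0, 1, 0, 0, 2], [0, 0, 0, 1, 0, 4], [0, 0, 0, 0, 1, 0], [0, 0, 0, 0, 0, 1]],
    [[1, 0, 3, 1, 0, 4], [0, 1, 0, 0, 0, 0], [0, 0, 1, 0, 0, 0], [0, 0, 0, 1, 0, 2], [0, 0, 0, 0, 1, 3], [0, 0, 0, 0, 0, 1]],
    [[1, 0, 0, 0, 4, 0], [0, 1, 0, 0, 0, 2], [0, 0, 1, 0, 0, 4], [0, 0, 0, 1, 0, 0], [0, 0, 0, 0, 1, 0], [0, 0, 0, 0, 0, 1]],
    [[1, 0, 3, 0, 2, 0], [0, 1, 0, 0, 0, 0], [0, 0, 1, 0, 0, 3], [0, 0, 0, 1, 0, 3], [0, 0, 0, 0, 1, 3], [0, 0, 0, 0, 0, 1]],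
    [[1, 0, 1, 2, 0, 1], [0, 1, 0, 0, 0, 2], [0, 0, 1, 0, 0, 0], [0, 0, 0, 1, 0, 4], [0, 0, 0, 0, 1, 1], [0, 0, 0, 0, 0, 1]],
    [[1, 0, 0, 2, 0, 3], [0, 1, 0, 0, 0, 2], [0, 0, 1, 0, 0, 3], [0, 0, 0, 1, 0, 3], [0, 0, 0, 0, 1, 0], [0, 0, 0, 0, 0, 1]],
    [[1, 0, 0, 0, 3, 0], [0, 1, 0, 0, 0, 4], [0, 0, 1, 0, 0, 3], [0, 0, 0, 1, 0, 0], [0, 0, 0, 0, 1, 0], [0, 0, 0, 0, 0, 1]],
    [[1, 0, 3, 3, 1, 4], [0, 1, 0, 0, 0, 1], [0, 0, 1, 0, 0, 4], [0, 0, 0, 1, 0, 0], [0, 0, 0, 0, 1, 3], [0, 0, 0, 0, 0, 1]],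
    [[1, 0, 2, 1, 2, 2], [0, 1, 0, 0, 0, 2], [0, 0, 1, 0, 0, 0], [0, 0, 0, 1, 0, 1], [0, 0, 0, 0, 1, 2], [0, 0, 0, 0, 0, 1]],
    [[1, 0, 3, 2, 1, 1], [0, 1, 0, 0, 0, 0], [0, 0, 1, 0, 0, 0], [0, 0, 0, 1, 0, 1], [0, 0, 0, 0, 1, 3], [0, 0, 0, 0, 0, 1]],
    [[1, 0, 3, 1, 3, 3], [0, 1, 0, 0, 0, 0], [0, 0, 1, 0, 0, 3], [0, 0, 0, 1, 0, 2], [0, 0, 0, 0, 1, 3], [0, 0, 0, 0, 0, 1]],
    [[1, 0, 0, 2, 2, 3], [0, 1, 0, 0, 0, 0], [0, 0, 1, 0, 0, 0], [0, 0, 0, 1, 0, 3], [0, 0, 0, 0, 1, 0], [0, 0, 0, 0, 0, 1]],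
    [[1, 0, 2, 4, 0, 4], [0, 1, 0, 0, 0, 4], [0, 0, 1, 0, 0, 0], [0, 0, 0, 1, 0, 3], [0, 0, 0, 0, 1, 2], [0, 0, 0, 0, 0, 1]],
    [[1, 0, 3, 2, 1, 1], [0, 1, 0, 0, 0, 0], [0, 0, 1, 0, 0, 0], [0, 0, 0, 1, 0, 1], [0, 0, 0, 0, 1, 3], [0, 0, 0, 0, 0, 1]],
    [[1, 0, 0, 0, 2, 0], [0, 1, 0, 0, 0, 2], [0, 0, 1, 0, 0, 2], [0, 0, 0, 1, 0, 0], [0, 0, 0, 0, 1, 0], [0, 0, 0, 0, 0, 1]],
    [[1, 0, 2, 1, 0, 3], [0, 1, 0, 0, 0, 1], [0, 0, 1, 0, 0, 3], [0, 0, 0, 1, 0, 1], [0, 0, 0, 0, 1, 2], [0, 0, 0, 0, 0, 1]],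
    [[1, 0, 2, 3, 2, 2], [0, 1, 0, 0, 0, 0], [0, 0, 1, 0, 0, 3], [0, 0, 0, 1, 0, 4], [0, 0, 0, 0, 1, 2], [0, 0, 0, 0, 0, 1]],
    [[1, 0, 0, 0, 0, 0], [0, 1, 0, 0, 0, 0], [0, 0, 1, 0, 0, 0], [0, 0, 0, 1, 0, 0], [0, 0, 0, 0, 1, 0], [0, 0, 0, 0, 0, 1]],
    [[1, 0, 0, 0, 0, 0], [0, 1, 0, 0, 0, 0], [0, 0, 1, 0, 0, 0], [0, 0, 0, 1, 0, 0], [0, 0, 0, 0, 1, 0], [0, 0, 0, 0, 0, 1]],
    [[1, 0, 0, 0, 0, 0], [0, 1, 0, 0, 0, 0], [0, 0, 1, 0, 0, 0], [0, 0, 0, 1, 0, 0], [0, 0, 0, 0, 1, 0], [0, 0, 0, 0, 0, 1]],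
    [[1, 0, 0, 0, 0, 0], [0, 1, 0, 0, 0, 0], [0, 0, 1, 0, 0, 0], [0, 0, 0, 1, 0, 0], [0, 0, 0, 0, 1, 0], [0, 0, 0, 0, 0, 1]],
    [[1, 0, 0, 0, 0, 0], [0, 1, 0, 0, 0, 0], [0, 0, 1, 0, 0, 0], [0, 0, 0, 1, 0, 0], [0, 0, 0, 0, 1, 0], [0, 0, 0, 0, 0, 1]],
    [[1, 0, 0, 0, 0, 0], [0, 1, 0, 0, 0, 0], [0, 0, 1, 0, 0, 0], [0, 0, 0, 1, 0, 0], [0, 0, 0, 0, 1, 0], [0, 0, 0, 0, 0, 1]],
    [[1, 0, 0, 0, 0, 0], [0, 1, 0, 0, 0, 0], [0, 0, 1, 0, 0, 0], [0, 0, 0, 1, 0, 0], [0, 0, 0, 0, 1, 0], [0, 0, 0, 0, 0, 1]],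
    [[1, 0, 0, 0, 0, 0], [0, 2, 0, 0, 0, 0], [0, 0, 2, 0, 0, 0], [0, 0, 0, 2, 0, 0], [0, 0, 0, 0, 2, 0], [0, 0, 0, 0, 0, 4]],
    [[1, 0, 0, 0, 0, 0], [0, 2, 0, 0, 0, 0], [0, 0, 2, 0, 0, 0], [0, 0, 0, 2, 0, 0], [0, 0, 0, 0, 2, 0], [0, 0, 0, 0, 0, 4]],
    [[1, 0, 0, 0, 0, 0], [0, 2, 0, 0, 0, 0], [0, 0, 2, 0, 0, 0], [0, 0, 0, 2, 0, 0], [0, 0, 0, 0, 2, 0], [0, 0, 0, 0, 0, 4]],
    [[1, 0, 0, 0, 0, 0], [0, 1, 1, 1, 4, 4], [0, 0, 1, 2, 2, 2], [0, 0, 0, 1, 2, 0], [0, 0, 0, 0, 1, 0], [0, 0, 0, 0, 0, 1]],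
    [[2, 0, 0, 0, 0, 0], [0, 4, 3, 1, 3, 2], [0, 0, 3, 2, 4, 1], [0, 0, 0, 1, 4, 0], [0, 0, 0, 0, 2, 0], [0, 0, 0, 0, 0, 3]],
    [[1, 0, 0, 0, 0, 0], [0, 2, 3, 2, 2, 4], [0, 0, 2, 1, 4, 2], [0, 0, 0, 2, 1, 0], [0, 0, 0, 0, 2, 0], [0, 0, 0, 0, 0, 4]],
    [[2, 0, 0, 0, 0, 0], [0, 4, 0, 0, 0, 0], [0, 0, 3, 0, 0, 0], [0, 0, 0, 1, 0, 0], [0, 0, 0, 0, 2, 0], [0, 0, 0, 0, 0, 3]],
    [[3, 0, 0, 0, 0, 0], [0, 3, 2, 3, 3, 4], [0, 0, 4, 2, 3, 3], [0, 0, 0, 2, 1, 0], [0, 0, 0, 0, 1, 0], [0, 0, 0, 0, 0, 3]],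
    [[3, 0, 0, 0, 0, 0], [0, 3, 0, 0, 0, 0], [0, 0, 4, 0, 0, 0], [0, 0, 0, 2, 0, 0], [0, 0, 0, 0, 1, 0], [0, 0, 0, 0, 0, 3]],
    [[3, 0, 0, 0, 0, 0], [0, 1, 4, 1, 1, 1], [0, 0, 3, 4, 1, 2], [0, 0, 0, 4, 2, 0], [0, 0, 0, 0, 2, 0], [0, 0, 0, 0, 0, 2]],
    [[2, 0, 0, 0, 0, 0], [0, 2, 4, 3, 4, 3], [0, 0, 4, 1, 2, 4], [0, 0, 0, 3, 2, 0], [0, 0, 0, 0, 1, 0], [0, 0, 0, 0, 0, 2]],
    [[4, 0, 0, 0, 0, 0], [0, 3, 4, 2, 4, 2], [0, 0, 2, 2, 1, 4], [0, 0, 0, 3, 3, 0], [0, 0, 0, 0, 2, 0], [0, 0, 0, 0, 0, 1]],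
    [[4, 0, 0, 0, 0, 0], [0, 4, 2, 1, 2, 3], [0, 0, 1, 1, 3, 1], [0, 0, 0, 4, 4, 0], [0, 0, 0, 0, 1, 0], [0, 0, 0, 0, 0, 4]],
    [[1, 0, 0, 0, 0, 0], [0, 1, 4, 1, 1, 1], [0, 0, 1, 3, 2, 3], [0, 0, 0, 1, 3, 0], [0, 0, 0, 0, 1, 0], [0, 0, 0, 0, 0, 1]],
    [[3, 0, 0, 0, 0, 0], [0, 1, 3, 4, 3, 3], [0, 0, 3, 3, 4, 4], [0, 0, 0, 4, 4, 0], [0, 0, 0, 0, 2, 0], [0, 0, 0, 0, 0, 2]],
    [[1, 0, 0, 0, 0, 0], [0, 4, 4, 4, 1, 4], [0, 0, 4, 3, 3, 2], [0, 0, 0, 4, 3, 0], [0, 0, 0, 0, 4, 0], [0, 0, 0, 0, 0, 1]]]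

/-- A point that tells the representatives apart. -/
def dq : List ℕ := [1, 1, 0, 1, 0]

/-- A point moved by an iterated commutator. -/
def dpt : ℕ := 5

/-- The power of `b` sending `0` to a point. -/
def orb : List ℕ := [0, 4, 2, 1, 3]

/-- Elements normalising the second radical. -/
def hW : List (List ℕ) := [[2, 8, 12],
    [0, 0, 8, 11],
    [],
    [4, 8, 1, 1],
    [8],
    [8, 14]]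

/-- Exponents of the conjugates by `hW`. -/
def hT : List (List (List ℕ)) := [[[0, 0, 3, 0, 0, 3], [2, 0, 0, 1, 4, 1], [0, 0, 0, 4, 0, 3], [0, 0, 0, 0, 0, 2], [0, 0, 0, 0, 3, 0]],
    [[4, 0, 1, 2, 4, 4], [2, 0, 0, 2, 4, 4], [0, 0, 0, 3, 2, 2], [0, 0, 0, 0, 2, 3], [0, 0, 0, 0, 1, 0]],
    [[1, 0, 0, 0, 0, 0], [0, 0, 1, 0, 0, 0], [0, 0, 0, 1, 0, 0], [0, 0, 0, 0, 1, 0], [0, 0, 0, 0, 0, 1]],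
    [[0, 0, 3, 3, 4, 1], [1, 0, 0, 0, 4, 0], [0, 0, 0, 2, 2, 0], [0, 0, 0, 0, 0, 1], [0, 0, 0, 0, 2, 0]],
    [[0, 0, 3, 3, 4, 0], [2, 0, 0, 1, 2, 1], [0, 0, 0, 4, 4, 3], [0, 0, 0, 0, 0, 2], [0, 0, 0, 0, 3, 0]],
    [[0, 0, 3, 1, 1, 0], [2, 0, 0, 1, 2, 1], [0, 0, 0, 4, 3, 3], [0, 0, 0, 0, 0, 2], [0, 0, 0, 0, 3, 0]]]

/-- Words in the stabiliser of `0` fixing a point and no other but `0`. -/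
def cw : List (ℕ × List (List (ℕ × Bool))) :=
  [(1, [[(0, true)], [(1, true)], [(5, true)], [(6, true)]]),
    (2, [[(0, true)], [(1, true)], [(7, true)], [(5, true), (6, true), (5, false)]]),
    (3, [[(0, true)], [(1, true)], [(6, true)], [(7, true)]]),
    (10, [[(2, true), (0, false)], [(5, true), (5, true)], [(5, true), (7, true), (6, false)]]),
    (11, [[(2, true), (0, false)], [(5, true), (5, true), (0, false)], [(6, true), (5, true), (7, false)]]),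
    (40, [[(2, true)], [(5, true), (5, true)], [(5, true), (6, true), (7, false)]]),
    (5, [[(5, true)], [(6, true)], [(7, true)]])]

end CfsgLib.LyOut
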