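import Cfsg.Agent.LyOut.Words

/-! Checks in degree 111, part 2. -/

set_option autoImplicit false
set_option maxRecDepth 100000

namespace CfsgLib.LyOut

open CfsgLib.LyG2

theorem eleven2_ok : chkWords 111 Rep.tabs ([elevens.getD 2 []].map conv) = true := by decide +kernel

theorem eleven3_ok : chkWords 111 Rep.tabs ([elevens.getD 3 []].map conv) = true := by decide +kernel

end CfsgLib.LyOut
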