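import Cfsg.Agent.LyOut.Norm
import Cfsg.Agent.LyCert.Order

/-! Fixed cosets of the radicals, and their normalisers in `Ly`. -/

set_option autoImplicit false
set_option linter.style.haveILetI false
set_option maxRecDepth 100000

namespace CfsgLib.LyOut

open CfsgLib.CosetEnum CfsgLib.LyG2 CfsgLib.LyCert Subgroup

/-- The base coset. -/
def o : Cfsg.Spor.Ly ⧸ Hs := ((1 : Cfsg.Spor.Ly) : Cfsg.Spor.Ly ⧸ Hs)

/-- The coset of `z`. -/
noncomputable def p1 : Cfsg.Spor.Ly ⧸ Hs := ((zz : Cfsg.Spor.Ly) : Cfsg.Spor.Ly ⧸ Hs)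

/-- The translates of the coset of `z`. -/
noncomputable def pp (g : P) : Cfsg.Spor.Ly ⧸ Hs := psi g • p1

theorem smul_o (x : Cfsg.Spor.Ly) : x • o = ((x : Cfsg.Spor.Ly) : Cfsg.Spor.Ly ⧸ Hs) := by
  rw [o, MulAction.Quotient.smul_coe, smul_eq_mul, mul_one]

theorem smul_o_iff {x : Cfsg.Spor.Ly} : x • o = o ↔ x ∈ Hs := by
  rw [smul_o, o, QuotientGroup.eq, mul_one, inv_mem_iff]

theorem smul_o_eq_smul_iff {x y : Cfsg.Spor.Ly} : x • o = y • o ↔ x⁻¹ * y ∈ Hs := by
  rw [smul_o, smul_o, QuotientGroup.eq]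

theorem zz_smul_o : zz • o = p1 := smul_o zz

theorem base_zero : LyCert.base 0 = o := by rw [LyCert.base, repv_zero, inv_one, o]

theorem base_one : LyCert.base 1 = p1 := by
  have e : repv 1 = zz := by rw [repv, show LyCert.reps.getD 1 [] = [16] from rfl, prodw_cons, prodw_nil, mul_one]
  rw [LyCert.base, e, p1, zinv_eq.1]
  exact QuotientGroup.mk_mul_of_mem _ (prodw_mem (by decide))

/-- The stabiliser in `P` of a representative coset. -/
noncomputable def stK (j : ℕ) : Subgroup P := (MulAction.stabilizer Cfsg.Spor.Ly (LyCert.base j)).comap psi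

/-- The image of a subgroup of `P`. -/
noncomputable abbrev im (H : Subgroup P) : Subgroup Cfsg.Spor.Ly := H.map psi

section

variable (hlow : 51765179004000000 ∣ Nat.card Cfsg.Spor.Ly)
include hlow

theorem card_stK {j : ℕ} (hj : j < 5) : subSize j * Nat.card (stK j) = 5859000000 := by
  letI := MulAction.compHom (Cfsg.Spor.Ly ⧸ Hs) psi
  have h1 : Nat.card (P ⧸ MulAction.stabilizer P (LyCert.base j)) = subSize j := by
    rw [← Nat.card_congr (MulAction.orbitEquivQuotientStabilizer P (LyCert.base j)), ← orbit_eq_of_dvd hlow hj,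
      ← range_orbit]
    rfl
  have h2 := card_eq_card_quotient_mul_card_subgroup (MulAction.stabilizer P (LyCert.base j))
  rw [h1, card_P] at h2
  exact h2.symm

theorem stK_one : stK 1 = M0 := by
  have hle : M0 ≤ stK 1 := by
    intro m hm
    obtain ⟨m', e⟩ := M0_conj hm
    show psi m • LyCert.base 1 = LyCert.base 1
    rw [base_one, p1, MulAction.Quotient.smul_coe, smul_eq_mul, e]
    exact QuotientGroup.mk_mul_of_mem _ (psi_mem m')
  refine (eq_of_le_of_card_ge hle ?_).symm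
  have h1 := chain_bound _ _ chain0_ok
  rw [show chainSize chain0 = 300000 by decide +kernel, wGroup_mList] at h1
  have h2 := card_stK hlow (show 1 < 5 by norm_num)
  rw [show subSize 1 = 19530 from rfl] at h2
  omega

theorem card_M0 : Nat.card M0 = 300000 := by
  have h2 := card_stK hlow (show 1 < 5 by norm_num)
  rw [show subSize 1 = 19530 from rfl, stK_one hlow] at h2
  omega

theorem pp_eq_iff {g g' : P} : pp g = pp g' ↔ pt g = pt g' := by
  have h : (g⁻¹ * g') ∈ stK 1 ↔ psi (g⁻¹ * g') • p1 = p1 := by rw [← base_one]; rfl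
  rw [stK_one hlow, mem_M0, map_mul, map_inv, mul_smul, inv_smul_eq_iff, pt_mul, map_inv,
    Equiv.Perm.inv_eq_iff_eq] at h
  exact eq_comm.trans (h.symm.trans eq_comm)

theorem fixed_iff {H : Subgroup P} {g : P} :
    (∀ v ∈ im H, v • pp g = pp g) ↔ Fixed H (pt g) := by
  constructor
  · intro h v hv
    rw [← pt_mul, ← pp_eq_iff hlow, pp, map_mul, mul_smul]
    exact h _ (mem_map_of_mem _ hv)
  · rintro h _ ⟨v, hv, rfl⟩
    show psi v • psi g • p1 = psi g • p1
    rw [← mul_smul, ← map_mul]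
    exact (pp_eq_iff hlow).2 (by rw [pt_mul]; exact h v hv)

theorem fixed_cases {H : Subgroup P} (hc : Nat.card H = 3125) {x : Cfsg.Spor.Ly ⧸ Hs}
    (h : ∀ v ∈ im H, v • x = x) : x = o ∨ ∃ g, x = pp g ∧ Fixed H (pt g) := by
  obtain ⟨j, hj, g, rfl⟩ := exists_orbit x
  have hle : H.map (MulAut.conj g⁻¹).toMonoidHom ≤ stK j := by
    rintro _ ⟨v, hv, rfl⟩
    show psi (g⁻¹ * v * g⁻¹⁻¹) • LyCert.base j = LyCert.base j
    rw [inv_inv, map_mul, map_mul, map_inv, mul_smul, mul_smul, h _ (mem_map_of_mem _ hv),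
      inv_smul_smul]
  have hd : 3125 ∣ Nat.card (stK j) := by
    have hm : Nat.card (H.map (MulAut.conj g⁻¹).toMonoidHom) = Nat.card H :=
      card_map_of_injective (MulAut.conj g⁻¹).injective
    rw [← hc, ← hm]
    exact Subgroup.card_dvd_of_le hle
  have he := card_stK hlow hj
  obtain ⟨t, ht⟩ := hd
  interval_cases j
  · exact Or.inl (by rw [base_zero]; exact smul_o_iff.2 (psi_mem g))
  · exact Or.inr ⟨g, by rw [base_one]; rfl, (fixed_iff hlow).1 (by rw [base_one] at h; exact h)⟩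
  all_goals (simp only [subSize] at he; omega)

theorem p1_ne : p1 ≠ o := by
  intro e
  have h1 := orbit_eq_of_dvd hlow (show 1 < 5 by norm_num)
  have h0 := orbit_eq_of_dvd hlow (show 0 < 5 by norm_num)
  rw [base_one, e, ← base_zero, h0] at h1
  simp [subSize] at h1

theorem zz_not_mem : zz ∉ Hs := fun h => p1_ne hlow (by rw [← zz_smul_o]; exact smul_o_iff.2 h)

theorem fixed_V1 {x : Cfsg.Spor.Ly ⧸ Hs} (h : ∀ v ∈ im V1P, v • x = x) :
    x = o ∨ ∃ i : ℕ, x = pp (pR 0 ^ i) := by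
  rcases fixed_cases hlow card_V1P h with e | ⟨g, e, hg⟩
  · exact Or.inl e
  · exact Or.inr ⟨_, e.trans ((pp_eq_iff hlow).2 (fixed_V1_of_lt (fixed_V1_lt hg)).2.symm)⟩

theorem fixed_V2 {x : Cfsg.Spor.Ly ⧸ Hs} (h : ∀ v ∈ im V2P, v • x = x) : x = o :=
  (fixed_cases hlow card_V2P h).resolve_right fun ⟨_, _, hg⟩ => not_fixed_V2 _ hg

theorem nz_le_Hs {H : Subgroup P} (hV : V2P ≤ H) : Nz (im H) ≤ Hs := by
  intro n hn
  refine smul_o_iff.1 (fixed_V2 hlow fun v hv => ?_)
  have h1 := conj_mem_of_nz (inv_mem hn) (map_mono hV hv)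
  rw [inv_inv] at h1
  have h2 : (n⁻¹ * v * n) • o = o := smul_o_iff.2 (by
    obtain ⟨w, -, e⟩ := h1
    rw [← e]; exact psi_mem w)
  rw [← inv_smul_eq_iff, ← mul_smul, ← mul_smul]
  exact h2

theorem nz_im_eq {H : Subgroup P} (hV : V2P ≤ H) : Nz (im H) = im (Nz H) := by
  refine le_antisymm (fun n hn => ?_) ?_
  · obtain ⟨g, rfl⟩ : ∃ g, psi g = n := by
      have := nz_le_Hs hlow hV hn
      rw [← range_psi] at this
      exact this
    exact mem_map_of_mem _ (nz_of_map psi_injective hn)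
  · rintro _ ⟨g, hg, rfl⟩
    exact nz_map psi hg

theorem nz_im_UP : Nz (im UP) = im BP := by rw [nz_im_eq hlow V2P_le, nzU_eq]

end

theorem zz_nz : zz ∈ Nz (im V1P) := by
  let X : Subgroup P :=
    { carrier := {y | ∃ y' ∈ V1P, psi y * zz = zz * psi y'}
      one_mem' := ⟨1, one_mem _, by simp⟩
      mul_mem' := by
        rintro a b ⟨a', ha, ea⟩ ⟨b', hb, eb⟩
        exact ⟨a' * b', mul_mem ha hb, by rw [map_mul, map_mul, mul_assoc, eb, ← mul_assoc, ea, mul_assoc]⟩
      inv_mem' := by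
        rintro a ⟨a', ha, ea⟩
        exact ⟨a'⁻¹, inv_mem ha, by
          rw [map_inv, map_inv, inv_mul_eq_iff_eq_mul, ← mul_assoc, ea, mul_assoc, mul_inv_cancel, mul_one]⟩ }
  have hX : V1P ≤ X := by
    refine grp_le_iff.2 fun i hi (h1 : 1 ≤ i) => ?_
    rw [pR, prodw]
    refine X.list_prod_mem fun y hy => ?_
    obtain ⟨x, hx, rfl⟩ := List.mem_map.1 hy
    have h := List.all_eq_true.1 v1_letters (i - 1) (List.mem_range.2 (by omega))
    rw [show i - 1 + 1 = i by omega] at h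
    have h := List.all_eq_true.1 h x hx
    simp only [List.any_eq_true, List.mem_range, decide_eq_true_eq] at h
    obtain ⟨k, hk, e⟩ := h
    obtain ⟨hl, hl', -⟩ := mList_spec (show k < 8 by omega)
    refine ⟨prodw pl (mzW k), grp_mono (fun i _ h => h)
      (mem_of_okIn (List.all_eq_true.1 mz_ok k (List.mem_range.2 hk))), ?_⟩
    have hz := zconj_m [k]
    simp only [mWs, mzWs, List.map_cons, List.map_nil, List.flatten_cons, List.flatten_nil,
      List.append_nil] at hz
    rw [← show prodw pl (mW k) = pl x by rw [e, prodw_cons, prodw_nil, mul_one], psi_prodw hl,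
      psi_prodw hl']
    exact hz
  refine inv_mem_iff.1 (mem_nz_iff.2 (eq_of_le_of_card_ge ?_
    (card_map_of_injective (MulAut.conj _).injective).ge))
  rintro _ ⟨_, ⟨y, hy, rfl⟩, rfl⟩
  obtain ⟨y', hy', e⟩ := hX hy
  refine ⟨y', hy', ?_⟩
  show psi y' = zz⁻¹ * psi y * zz⁻¹⁻¹
  rw [inv_inv, mul_assoc, e, inv_mul_cancel_left]

end CfsgLib.LyOut
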