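import Mathlib.GroupTheory.SpecificGroups.Cyclic
import Mathlib.GroupTheory.Commutator.Basic
import Mathlib.Tactic.Group

/-! Elementary facts on normalisers in finite groups. -/

set_option autoImplicit false
set_option linter.style.haveILetI false

namespace CfsgLib.LyOut

open Subgroup
open scoped commutatorElement

variable {G G' : Type*} [Group G] [Group G']

/-- The normaliser of a subgroup. -/
abbrev Nz (H : Subgroup G) : Subgroup G := Subgroup.normalizer (H : Set G)

theorem conj_mem_of_nz {H : Subgroup G} {g x : G} (hg : g ∈ Nz H) (hx : x ∈ H) : g * x * g⁻¹ ∈ H :=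
  (mem_normalizer_iff.1 hg x).1 hx

theorem mem_nz_iff {H : Subgroup G} {g : G} : g ∈ Nz H ↔ H.map (MulAut.conj g).toMonoidHom = H :=
  mem_normalizer_iff_map_conj_eq

theorem nz_map (f : G →* G') {H : Subgroup G} {g : G} (hg : g ∈ Nz H) : f g ∈ Nz (H.map f) := by
  rw [mem_nz_iff] at hg ⊢
  conv_rhs => rw [← hg]
  rw [map_map, map_map]
  congr 1
  ext x
  simp

theorem nz_of_map {f : G →* G'} (hf : Function.Injective f) {H : Subgroup G} {g : G}
    (hg : f g ∈ Nz (H.map f)) : g ∈ Nz H := by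
  refine mem_normalizer_iff.2 fun x => ?_
  rw [← mem_map_iff_mem hf, ← mem_map_iff_mem hf (x := g * x * g⁻¹), map_mul, map_mul, map_inv]
  exact mem_normalizer_iff.1 hg (f x)

theorem mem_nz_of_gens [Finite G] {s : Set G} {g : G}
    (h : ∀ x ∈ s, g * x * g⁻¹ ∈ closure s) : g ∈ Nz (closure s) := by
  rw [mem_nz_iff]
  refine eq_of_le_of_card_ge ?_ (card_map_of_injective (MulAut.conj g).injective).ge
  rw [MonoidHom.map_closure, closure_le]
  rintro _ ⟨x, hx, rfl⟩
  exact h x hx

/-- Commutators of a group generated by elements with commutators in a normalised subgroup. -/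
theorem commutator_le_of_gens {s : Set G} {N : Subgroup G} (hn : closure s ≤ Nz N)
    (h : ∀ x ∈ s, ∀ y ∈ s, ⁅x, y⁆ ∈ N) : ⁅closure s, closure s⁆ ≤ N := by
  rw [commutator_le]
  have h1 : ∀ y ∈ s, ∀ x ∈ closure s, ⁅x, y⁆ ∈ N := by
    intro y hy x hx
    induction hx using closure_induction with
    | mem x hx => exact h x hx y hy
    | one => simp
    | mul x x' hx hx' hm hm' =>
      rw [show ⁅x * x', y⁆ = x * ⁅x', y⁆ * x⁻¹ * ⁅x, y⁆ by
        simp only [commutatorElement_def]; group]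
      exact mul_mem (conj_mem_of_nz (hn hx) hm') hm
    | inv x hx hm =>
      rw [show ⁅x⁻¹, y⁆ = x⁻¹ * ⁅x, y⁆⁻¹ * x⁻¹⁻¹ by simp only [commutatorElement_def]; group]
      exact conj_mem_of_nz (hn (inv_mem hx)) (inv_mem hm)
  intro x hx y hy
  induction hy using closure_induction with
  | mem y hy => exact h1 y hy x hx
  | one => simp
  | mul y y' hy hy' hm hm' =>
    rw [show ⁅x, y * y'⁆ = ⁅x, y⁆ * (y * ⁅x, y'⁆ * y⁻¹) by simp only [commutatorElement_def]; group]
    exact mul_mem hm (conj_mem_of_nz (hn hy) hm')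
  | inv y hy hm =>
    rw [show ⁅x, y⁻¹⁆ = y⁻¹ * ⁅x, y⁆⁻¹ * y⁻¹⁻¹ by simp only [commutatorElement_def]; group]
    exact conj_mem_of_nz (hn (inv_mem hy)) (inv_mem hm)

/-- Adjoining an element whose fifth power lies in a normalised subgroup. -/
theorem mem_closure_insert {H : Subgroup G} {s : G} (hn : s ∈ Nz H) (h5 : s ^ 5 ∈ H) {y : G}
    (hy : y ∈ closure (insert s (H : Set G))) : ∃ i < 5, ∃ x ∈ H, y = s ^ i * x := by
  have hle : closure (insert s (H : Set G)) ≤ zpowers s ⊔ H := by
    rw [closure_le]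
    rintro x (rfl | hx)
    · exact mem_sup_left (mem_zpowers x)
    · exact mem_sup_right hx
  have hy' := hle hy
  rw [← SetLike.mem_coe, coe_mul_of_left_le_normalizer_right _ _ (zpowers_le.2 hn)] at hy'
  obtain ⟨_, ⟨j, rfl⟩, x, hx, rfl⟩ := hy'
  refine ⟨(j % 5).toNat, by omega, (s ^ 5) ^ (j / 5) * x, mul_mem (zpow_mem h5 _) hx, ?_⟩
  rw [← mul_assoc]
  congr 1
  show s ^ j = _
  rw [← zpow_natCast, ← zpow_natCast s 5, ← zpow_mul, ← zpow_add, Int.toNat_of_nonneg (by omega)]
  congr 1
  push_cast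
  omega

/-- Adjoining an element of prime order modulo a normalised subgroup multiplies the order by it. -/
theorem card_closure_insert [Finite G] {H : Subgroup G} {s : G} (hn : s ∈ Nz H) (h5 : s ^ 5 ∈ H)
    (hs : s ∉ H) : Nat.card (closure (insert s (H : Set G))) = 5 * Nat.card H := by
  set K := closure (insert s (H : Set G))
  have hsK : s ∈ K := subset_closure (Set.mem_insert _ _)
  have hHK : H ≤ K := fun x hx => subset_closure (Set.mem_insert_of_mem _ hx)
  have hk : ∀ i : ℕ, 0 < i → i < 5 → s ^ i ∉ H := by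
    intro i h0 hi hm
    refine hs ?_
    have hco : Nat.Coprime i 5 := ((Nat.prime_five).coprime_iff_not_dvd.2 fun hd =>
      absurd (Nat.le_of_dvd h0 hd) (by omega)).symm
    have := Int.gcd_eq_gcd_ab i 5
    rw [show Int.gcd i 5 = 1 from hco] at this
    have e : s = (s ^ i) ^ Int.gcdA i 5 * (s ^ 5) ^ Int.gcdB i 5 := by
      conv_lhs => rw [← zpow_one s]
      rw [← zpow_natCast, ← zpow_natCast s 5, ← zpow_mul, ← zpow_mul, ← zpow_add]
      congr 1
    rw [e]
    exact mul_mem (zpow_mem hm _) (zpow_mem h5 _)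
  let f : Fin 5 × H → K := fun p => ⟨s ^ p.1.val * p.2.1, mul_mem (pow_mem hsK _) (hHK p.2.2)⟩
  have hf : Function.Bijective f := by
    constructor
    · rintro ⟨i, x⟩ ⟨j, y⟩ he
      have he : s ^ i.val * x.1 = s ^ j.val * y.1 := congrArg Subtype.val he
      have key : ∀ {i j : ℕ}, i ≤ j → j < 5 → ∀ {x y : H}, s ^ i * x.1 = s ^ j * y.1 → i = j := by
        intro i j hij hj x y he
        by_contra hne
        refine hk (j - i) (by omega) (by omega) ?_
        rw [← Nat.add_sub_cancel' hij, pow_add, mul_assoc, mul_right_inj, eq_comm,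
          ← eq_mul_inv_iff_mul_eq] at he
        rw [he]
        exact mul_mem x.2 (inv_mem y.2)
      have hij : i = j := Fin.ext ((le_total i.val j.val).elim (fun h => key h j.2 he)
        fun h => (key h i.2 he.symm).symm)
      subst hij
      exact Prod.ext rfl (Subtype.ext (mul_left_cancel he))
    · rintro ⟨y, hy⟩
      obtain ⟨i, hi, x, hx, rfl⟩ := mem_closure_insert hn h5 hy
      exact ⟨⟨⟨i, hi⟩, ⟨x, hx⟩⟩, rfl⟩
  rw [← Nat.card_congr (Equiv.ofBijective f hf), Nat.card_prod, Nat.card_fin]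

/-- A normalised subgroup of index five contains commutators and fifth powers. -/
theorem commutator_mem_of_index_five [Finite G] {U W : Subgroup G} (hle : W ≤ U) (hn : U ≤ Nz W)
    (hc : Nat.card U = 5 * Nat.card W) {x y : G} (hx : x ∈ U) (hy : y ∈ U) : ⁅x, y⁆ ∈ W := by
  haveI : (W.subgroupOf U).Normal := ⟨fun a ha g => mem_subgroupOf.2 (conj_mem_of_nz (hn g.2) (mem_subgroupOf.1 ha))⟩
  have hi : Nat.card (↥U ⧸ W.subgroupOf U) = 5 := by
    have h1 := card_eq_card_quotient_mul_card_subgroup (W.subgroupOf U)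
    rw [Nat.card_congr (subgroupOfEquivOfLe hle).toEquiv, hc] at h1
    exact (Nat.eq_of_mul_eq_mul_right Nat.card_pos h1).symm
  haveI : Fact (Nat.Prime 5) := ⟨Nat.prime_five⟩
  haveI := isCyclic_of_prime_card hi
  letI := IsCyclic.commGroup (α := ↥U ⧸ W.subgroupOf U)
  have : ((⁅(⟨x, hx⟩ : U), ⟨y, hy⟩⁆ : U) : ↥U ⧸ W.subgroupOf U) = 1 := by
    rw [← QuotientGroup.mk'_apply, map_commutatorElement, commutatorElement_eq_one_iff_mul_comm]
    exact mul_comm _ _
  exact mem_subgroupOf.1 ((QuotientGroup.eq_one_iff _).1 this)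

end CfsgLib.LyOut
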