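import Cfsg.Agent.LyOut.Cent
import Cfsg.Agent.LyOut.Eleven1
import Cfsg.Agent.LyOut.Eleven2
import Cfsg.Agent.LyOut.Eleven3
import Cfsg.Agent.S2121
import Cfsg.Prelude.Def_KGroupFacts

/-!
Every automorphism of `Ly` is inner: up to conjugation it fixes the unipotent group, hence both
radicals; so it fixes `⟨a, b, c, d⟩`, on which it is inner, and then the lift of `z` is forced.
-/

set_option autoImplicit false
set_option linter.style.haveILetI false
set_option maxRecDepth 100000

namespace CfsgLib.LyOut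

open CfsgLib.CosetEnum CfsgLib.LyG2 CfsgLib.LyCert Subgroup
open scoped Pointwise

/-- The word of `d` in `a, b, c, e`. -/
def dWord : List ℕ := [0, 2, 2, 1, 3, 5, 2, 5, 3, 1, 5, 0, 5, 1, 4, 0, 4, 0, 8, 0, 8, 0, 1, 5, 0, 2, 8]

theorem dWord_ok : eqW [6] dWord = true := by decide +kernel

theorem nz_map_equiv {G : Type*} [Group G] (β : G ≃* G) (H : Subgroup G) :
    (Nz H).map β.toMonoidHom = Nz (H.map β.toMonoidHom) := by
  refine le_antisymm ?_ fun n hn => ?_
  · rintro _ ⟨n, hn, rfl⟩
    exact nz_map _ hn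
  · refine ⟨β.symm n, nz_of_map (f := β.toMonoidHom) β.injective ?_, β.apply_symm_apply n⟩
    show β (β.symm n) ∈ _
    rw [β.apply_symm_apply]; exact hn

theorem card_im (H : Subgroup P) : Nat.card (im H) = Nat.card H := card_map_of_injective psi_injective

theorem im_le_Hs (H : Subgroup P) : im H ≤ Hs := by
  rintro _ ⟨x, -, rfl⟩
  exact psi_mem x

theorem gw_psi {w : List ℕ} (hw : ∀ x ∈ w, x < 16) : prodw gw w = psi (prodw pl w) := (psi_prodw hw).symm

theorem zero_of_fixed_M0 {q : Pt} (h : Fixed M0 q) : q = 0 := by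
  have hlt := fixed_V1_lt fun v hv => h v (V1P_le_M0 hv)
  by_contra hne
  have hne' : q.val ≠ 0 := fun e => hne (Fin.ext e)
  have := List.all_eq_true.1 fixM _ (show q.val ∈ [1, 2, 3, 4] by
    simp only [List.mem_cons, List.not_mem_nil, or_false]; omega)
  obtain ⟨k, hk, e⟩ := List.any_eq_true.1 this
  obtain ⟨hl, -, hkM⟩ := mW_spec (List.mem_range.1 hk)
  rw [(act_fix_iff hl _).1 (h _ hkM)] at e
  simp at e

theorem wNorm_shape : (List.range 3).all (fun k =>
    decide (wNorm.getD k [] = [16] ++ rep 2 ++ gW (k + 3) ++ LyCert.wi (rep 2) ++ [17] ++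
      LyCert.wi (nf (wT.getD k []))) && ((wNorm.getD k []).all (fun x => Nat.blt x 18) &&
        (low (rep 2) && low (nf (wT.getD k []))))) = true := by decide +kernel

/-- The identities behind the group of order 125. -/
theorem wNorm_eq [IsSimpleGroup Cfsg.Spor.Ly] {k : ℕ} (hk : k < 3) :
    zz * psi (repP 2) * psi (pR (k + 3)) * (zz * psi (repP 2))⁻¹ =
      psi (prodw pl (nf (wT.getD k []))) := by
  have h := List.all_eq_true.1 wNorm_shape k (List.mem_range.2 hk)
  simp only [Bool.and_eq_true, decide_eq_true_eq, List.all_eq_true, Nat.blt_eq] at h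
  obtain ⟨e, h18, hr, hn⟩ := h
  have hr := lt_of_low hr
  have hn := lt_of_low hn
  have hg := gW_low (show k + 3 < 6 by omega)
  have hm : wNorm.getD k [] ∈ wNorm := by
    rw [List.getD_eq_getElem _ _ (show k < wNorm.length by simpa [wNorm] using hk)]
    exact List.getElem_mem _
  have h1 := gw_one wNorm_ok wNorm_lt hm h18
  rw [e, prodw_append, prodw_append, prodw_append, prodw_append, prodw_append, gw_psi hr, gw_psi hg,
    gw_psi (wi_low hr), gw_psi (wi_low hn), prodw_pl_wi hr, prodw_pl_wi hn, map_inv, map_inv,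
    show prodw gw [16] = zz by rw [prodw_cons, prodw_nil, mul_one],
    show prodw gw [17] = zz⁻¹ by rw [prodw_cons, prodw_nil, mul_one, gw_zinv], mul_inv_eq_one] at h1
  rw [← h1, repP, pR]
  group

theorem out_P {γ : P ≃* P} : ∃ y : P, ∀ x, γ x = y * x * y⁻¹ := by
  obtain ⟨E⟩ := G14.nonempty_equiv
  haveI : Fact (Nat.Prime 5) := ⟨Nat.prime_five⟩
  have h1 := Cfsg.Agent.S2121.result (F := ZMod 5) 5 1 (by rw [ZMod.card, pow_one]) (by norm_num)
  rw [if_neg (by norm_num), ← index_eq_card, index_eq_one] at h1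
  obtain ⟨y, hy⟩ : (E.symm.trans (γ.trans E) : MulAut G14.G25) ∈ Cfsg.Inn G14.G25 := by
    rw [h1]; exact mem_top _
  refine ⟨E.symm y, fun x => E.injective ?_⟩
  have := DFunLike.congr_fun hy (E x)
  simp only [MulAut.conj_apply, MulEquiv.trans_apply, MulEquiv.symm_apply_apply] at this
  simp [this]

section

variable (hlow : 51765179004000000 ∣ Nat.card Cfsg.Spor.Ly)
include hlow

/-- An automorphism becomes one fixing the unipotent group after conjugation. -/
theorem exists_conj_fix (α : MulAut Cfsg.Spor.Ly) :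
    ∃ g, (im UP).map (MulAut.conj g * α).toMonoidHom = im UP := by
  haveI : Fact (Nat.Prime 5) := ⟨Nat.prime_five⟩
  have hp : IsPGroup 5 (im UP) := IsPGroup.of_card (n := 6) (by rw [card_im, card_UP]; norm_num)
  have hi : ¬ 5 ∣ (im UP).index := by
    have h := (im UP).index_mul_card
    rw [card_eq_of_dvd hlow, card_im, card_UP] at h
    have : (im UP).index = 3312971456256 := by omega
    rw [this]; norm_num
  let S : Sylow 5 Cfsg.Spor.Ly := hp.toSylow hi
  haveI : Finite Cfsg.Spor.Ly := finite_Ly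
  have hmap : IsPGroup 5 ((im UP).map α.toMonoidHom) := hp.map _
  have hi2 : ¬ 5 ∣ ((im UP).map α.toMonoidHom).index := by
    have e : ((im UP).map α.toMonoidHom).index = (im UP).index := index_map_equiv _ α
    rwa [e]
  obtain ⟨g, hg⟩ := MulAction.exists_smul_eq Cfsg.Spor.Ly (hmap.toSylow hi2) S
  refine ⟨g, ?_⟩
  have h := congrArg (fun Q : Sylow 5 Cfsg.Spor.Ly => (Q : Subgroup Cfsg.Spor.Ly)) hg
  simp only [Sylow.coe_subgroup_smul, Sylow.smul_def] at h
  rw [show (MulAut.conj g * α).toMonoidHom = (MulAut.conj g).toMonoidHom.comp α.toMonoidHom from rfl,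
    ← map_map]
  exact h

variable [IsSimpleGroup Cfsg.Spor.Ly]

section Fix

variable {β : MulAut Cfsg.Spor.Ly} (hU : (im UP).map β.toMonoidHom = im UP)
include hU

theorem map_BP : (im BP).map β.toMonoidHom = im BP := by
  rw [← nz_im_UP hlow, nz_map_equiv, hU]

theorem map_radical {V : Subgroup P} (hV : V ≤ UP) (hc : Nat.card V = 3125) (hn : UP ≤ Nz V)
    (hB : BP ≤ Nz V) :
    (im V).map β.toMonoidHom = im V2P ∨ (im V).map β.toMonoidHom = im V1P := by
  set W := (im V).map β.toMonoidHom with hWdef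
  have hle : W ≤ im UP := hU ▸ map_mono (map_mono hV)
  have hN : ∀ {K : Subgroup P}, K ≤ Nz V → (im K).map β.toMonoidHom = im K →
      ∀ x ∈ K, psi x ∈ Nz W := by
    intro K hK he x hx
    have : psi x ∈ (im K).map β.toMonoidHom := he.symm ▸ mem_map_of_mem _ hx
    obtain ⟨_, ⟨y, hy, rfl⟩, e⟩ := this
    rw [← e]
    exact nz_map _ (nz_map _ (hK hy))
  set Wp := W.comap psi with hWp
  have hmap : im Wp = W := by
    rw [im, hWp, map_comap_eq, range_psi]
    exact inf_eq_right.2 (hle.trans (im_le_Hs _))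
  have hle' : Wp ≤ UP := fun x hx => by
    obtain ⟨y, hy, e⟩ := hle hx
    rwa [← psi_injective e]
  have hcard : Nat.card Wp = 3125 := by
    rw [← card_im, hmap, hWdef, card_map_of_injective (f := β.toMonoidHom) β.injective, card_im, hc]
  have hnU : UP ≤ Nz Wp := fun x hx => nz_of_map psi_injective (by rw [← im, hmap]; exact hN hn hU x hx)
  have hu : uP ∈ Nz Wp := nz_of_map psi_injective (by
    rw [← im, hmap]; exact hN hB (map_BP hlow hU) _ (nzU_eq ▸ uP_mem))
  rw [← hmap]
  rcases cases_of_torus hle' hnU hu hcard with h | h <;> rw [h]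
  · exact Or.inl rfl
  · exact Or.inr rfl

theorem map_V1 : (im V1P).map β.toMonoidHom = im V1P := by
  refine (map_radical hlow hU V1P_le card_V1P UP_le_nz_V1 (nzU_eq ▸ nzU_le_V1)).resolve_left fun h => ?_
  have hx : ∀ x ∈ V2P, ∃ a ∈ V1P, β (psi a) = psi x := by
    intro x hx
    have : psi x ∈ (im V1P).map β.toMonoidHom := h.symm ▸ mem_map_of_mem _ hx
    obtain ⟨_, ⟨a, ha, rfl⟩, e⟩ := this
    exact ⟨a, ha, e⟩
  obtain ⟨a, ha, e0⟩ := hx (pR 0) (pR_mem (by norm_num) (show 0 ≠ 1 by norm_num))
  obtain ⟨b, hb, e2⟩ := hx (pR 2) (pR_mem (by norm_num) (show 2 ≠ 1 by norm_num))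
  refine dW_ne (psi_injective ?_)
  have := congrArg (fun t => β (psi t)) (V1P_class_two ha hb ha)
  simp only [map_commutatorElement, map_one, e0, e2] at this
  rw [map_commutatorElement, map_commutatorElement, this, map_one]

theorem map_V2 : (im V2P).map β.toMonoidHom = im V2P := by
  refine (map_radical hlow hU V2P_le card_V2P UP_le_nz_V2 (BP_le.trans inf_le_right)).resolve_right fun h => ?_
  rw [← map_V1 hlow hU] at h
  have h' : (im V2P) = im V1P := map_injective (f := β.toMonoidHom) β.injective h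
  have h'' : V2P = V1P := map_injective psi_injective h'
  refine not_fixed_V2 0 ?_
  rw [h'']
  exact (fixed_V1_of_lt (by norm_num)).1

omit hU in
theorem mem_map_of_inv {K L : Subgroup Cfsg.Spor.Ly} (h : K.map β.toMonoidHom = K) (hKL : K ≤ L) :
    K ≤ L.map β.toMonoidHom := h ▸ map_mono hKL

theorem map_Hs : Hs.map β.toMonoidHom = Hs := by
  classical
  set N1 := Nz (im V1P)
  set N2 := Nz (im V2P)
  set H' := Hs.map β.toMonoidHom
  have hN1 : N1.map β.toMonoidHom = N1 := by rw [nz_map_equiv, map_V1 hlow hU]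
  have hN2 : N2.map β.toMonoidHom = N2 := by rw [nz_map_equiv, map_V2 hlow hU]
  have hN2H : N2 ≤ Hs := nz_le_Hs hlow le_rfl
  have hBN2 : im BP ≤ N2 := by
    rw [show N2 = im (Nz V2P) from nz_im_eq hlow le_rfl]
    exact map_mono (BP_le.trans inf_le_right)
  have hUH' : im UP ≤ H' := mem_map_of_inv hlow hU (im_le_Hs _)
  have hN2H' : N2 ≤ H' := mem_map_of_inv hlow hN2 hN2H
  have hm : ∀ {x : Cfsg.Spor.Ly} {K : Subgroup Cfsg.Spor.Ly}, K.map β.toMonoidHom = K → x ∈ K → β x ∈ K :=
    fun h hx => h.le (mem_map_of_mem _ hx)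
  have hgen : ∀ K : Subgroup Cfsg.Spor.Ly, β (psi (prodw pl [0])) ∈ K → im UP ≤ K → N2 ≤ K → H' ≤ K := by
    intro K ha hUK hNK
    rw [map_le_iff_le_comap, ← range_psi]
    rintro _ ⟨x, rfl⟩
    have hb : psi (prodw pl [2]) ∈ K.comap β.toMonoidHom :=
      hUK (hm hU (mem_map_of_mem _ (bP_eq ▸ pR_mem (by norm_num) (Nat.zero_le 0))))
    have hc : psi (prodw pl [4]) ∈ K.comap β.toMonoidHom := hUK (hm hU (mem_map_of_mem _ cP_mem))
    have he : psi (prodw pl [8]) ∈ K.comap β.toMonoidHom := hNK (hm hN2 (nz_map _ eP_nz))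
    set X := K.comap β.toMonoidHom
    have key : ∀ w : List ℕ, (∀ y ∈ w, y ∈ [0, 1, 2, 3, 4, 5, 8, 9]) → psi (prodw pl w) ∈ X := by
      intro w hw
      induction w with
      | nil => simpa [prodw] using one_mem X
      | cons y w ih =>
        rw [show y :: w = [y] ++ w from rfl, prodw_append, map_mul]
        refine mul_mem ?_ (ih fun z hz => hw z (List.mem_cons_of_mem y hz))
        have hy := hw y List.mem_cons_self
        simp only [List.mem_cons, List.not_mem_nil, or_false] at hy
        rcases hy with rfl | rfl | rfl | rfl | rfl | rfl | rfl | rfl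
        · exact ha
        · rw [show ([1] : List ℕ) = wi [0] from rfl, prodw_pl_wi (by decide), map_inv]; exact inv_mem ha
        · exact hb
        · rw [show ([3] : List ℕ) = wi [2] from rfl, prodw_pl_wi (by decide), map_inv]; exact inv_mem hb
        · exact hc
        · rw [show ([5] : List ℕ) = wi [4] from rfl, prodw_pl_wi (by decide), map_inv]; exact inv_mem hc
        · exact he
        · rw [show ([9] : List ℕ) = wi [8] from rfl, prodw_pl_wi (by decide), map_inv]; exact inv_mem he
    have hd : psi (prodw pl [6]) ∈ X := by rw [eqW_pl dWord_ok]; exact key _ (by decide)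
    have hHs : Hs ≤ X := by
      rw [Hs, MonoidHom.map_closure, closure_le]
      rintro _ ⟨t, ht, rfl⟩
      simp only [LyG2.abcd, Set.mem_insert_iff, Set.mem_singleton_iff] at ht
      have hgw : ∀ n : ℕ, n < 16 → psi (prodw pl [n]) = toLy (gl n) := fun n hn => by
        rw [prodw_cons, prodw_nil, mul_one, psi_pl hn, gw_low hn]
      rcases ht with rfl | rfl | rfl | rfl
      · exact (hgw 0 (by norm_num)) ▸ key [0] (by decide)
      · exact (hgw 2 (by norm_num)) ▸ key [2] (by decide)
      · exact (hgw 4 (by norm_num)) ▸ key [4] (by decide)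
      · exact (hgw 6 (by norm_num)) ▸ hd
    exact hHs (psi_mem x)
  have hcard : Nat.card H' = Nat.card Hs := card_map_of_injective β.injective
  set g := β (psi (prodw pl [0])) with hgdef
  have hgH' : g ∈ H' := mem_map_of_mem _ (psi_mem _)
  have hgN : g ∈ N1 := hm hN1 (nz_map _ aP_nz)
  by_cases hgs : g ∈ Hs
  · haveI : Finite Cfsg.Spor.Ly := finite_Ly
    exact eq_of_le_of_card_ge (hgen Hs hgs (im_le_Hs _) hN2H) hcard.ge
  exfalso
  have hfix : ∀ v ∈ im V1P, v • g • o = g • o := fun v hv => by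
    have h1 := conj_mem_of_nz (inv_mem hgN) hv
    rw [inv_inv] at h1
    rw [← inv_smul_eq_iff, ← mul_smul, ← mul_smul]
    exact smul_o_iff.2 (im_le_Hs _ h1)
  rcases fixed_V1 hlow hfix with h | ⟨i, h⟩
  · exact hgs (smul_o_iff.1 h)
  set t := psi (pR 0 ^ i) with ht
  have h' : g • o = (t * zz) • o := by rw [h, mul_smul, zz_smul_o]; rfl
  have hk : (t * zz)⁻¹ * g ∈ Hs := smul_o_eq_smul_iff.1 h'.symm
  rw [← range_psi] at hk
  obtain ⟨n, hn⟩ := hk
  have htN : t ∈ N1 := nz_map _ (UP_le_nz_V1 (pow_mem (pR_mem (by norm_num) (Nat.zero_le 0)) i))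
  have hnV : n ∈ Nz V1P := nz_of_map psi_injective
    (hn ▸ mul_mem (inv_mem (mul_mem htN zz_nz)) hgN)
  obtain ⟨j, hj, b0, hb0, rfl⟩ := nzV1_eq hnV
  have htU : t ∈ im UP := mem_map_of_mem _ (pow_mem (pR_mem (by norm_num) (Nat.zero_le 0)) i)
  have hzr : zz * psi (repP j) = t⁻¹ * g * (psi b0)⁻¹ := by
    rw [map_mul] at hn
    rw [eq_mul_inv_iff_mul_eq, mul_assoc, hn]
    group
  have hzrH' : zz * psi (repP j) ∈ H' := by
    rw [hzr]
    exact mul_mem (mul_mem (inv_mem (hUH' htU)) hgH') (inv_mem (hN2H' (hBN2 (mem_map_of_mem _ hb0))))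
  have hrl : ∀ x ∈ rep j, x < 16 := by
    interval_cases j <;> decide
  by_cases h2 : j = 2
  · subst h2
    set L := closure ((N2 : Set Cfsg.Spor.Ly) ∪ {zz * psi (repP 2)})
    have hN2L : N2 ≤ L := fun x hx => subset_closure (Or.inl hx)
    have hUL : im UP ≤ L := le_trans (by
      rw [show N2 = im (Nz V2P) from nz_im_eq hlow le_rfl]
      exact map_mono UP_le_nz_V2) hN2L
    have hHL : H' ≤ L := by
      refine hgen L ?_ hUL hN2L
      rw [show g = t * (zz * psi (repP 2)) * psi b0 by rw [hzr]; group]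
      exact mul_mem (mul_mem (hUL htU) (subset_closure (Or.inr rfl))) (hN2L (hBN2 (mem_map_of_mem _ hb0)))
    have hW : im W3P = ⁅im V2P, im V2P⁆ := by rw [← V2P_comm, im, map_commutator]
    haveI : Finite Cfsg.Spor.Ly := finite_Ly
    have hLW : L ≤ Nz (im W3P) := by
      rw [closure_le]
      rintro x (hx | rfl)
      · rw [SetLike.mem_coe, hW, mem_nz_iff, map_commutator, mem_nz_iff.1 hx]
      · rw [im, W3P, grp, MonoidHom.map_closure, SetLike.mem_coe]
        refine mem_nz_of_gens ?_
        rintro _ ⟨_, ⟨i', ⟨(hi3 : 3 ≤ i'), (hi6 : i' < 6)⟩, rfl⟩, rfl⟩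
        rw [← MonoidHom.map_closure]
        obtain ⟨k, hk, rfl⟩ : ∃ k < 3, i' = k + 3 := ⟨i' - 3, by omega, by omega⟩
        refine ⟨prodw pl (nf (wT.getD k [])), nf_mem fun j hj => ?_, (wNorm_eq hk).symm⟩
        by_cases h3 : 3 ≤ j
        · exact Or.inl h3
        · refine Or.inr ?_
          interval_cases k <;> interval_cases j <;> rfl
    haveI hs : IsSimpleGroup H' := by
      haveI := G14.isSimple
      obtain ⟨E⟩ := G14.nonempty_equiv
      exact ((equivMapOfInjective Hs β.toMonoidHom β.injective).symm.trans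
        ((MulEquiv.subgroupCongr range_psi.symm).trans
          ((MonoidHom.ofInjective psi_injective).symm.trans E))).isSimpleGroup
    haveI hnor : ((im W3P).subgroupOf H').Normal :=
      ⟨fun a ha y => mem_subgroupOf.2 (conj_mem_of_nz (hLW (hHL y.2)) (mem_subgroupOf.1 ha))⟩
    have hWH : im W3P ≤ H' := (map_mono (grp_mono fun i _ _ => Nat.zero_le i)).trans hUH'
    have hc125 : Nat.card ((im W3P).subgroupOf H') = 125 := by
      rw [Nat.card_congr (subgroupOfEquivOfLe hWH).toEquiv, card_im]
      exact card_grp 3 (by norm_num)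
    rcases hnor.eq_bot_or_eq_top with hb | htp
    · rw [hb, card_bot] at hc125
      omega
    · rw [htp, card_top, hcard, card_Hs] at hc125
      omega
  · obtain ⟨hhl, hh⟩ := hW_spec hj
    set w := [16] ++ rep j ++ hW.getD j [] with hw
    have hw18 : ∀ x ∈ w, x < 18 := by
      intro x hx
      simp only [hw, List.mem_append, List.mem_singleton] at hx
      rcases hx with (rfl | hx) | hx
      exacts [by norm_num, lt_trans (hrl x hx) (by norm_num), lt_trans (hhl x hx) (by norm_num)]
    have hwe : prodw gw w = zz * psi (repP j) * psi (prodw pl (hW.getD j [])) := by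
      rw [hw, prodw_append, prodw_append, gw_psi hrl, gw_psi hhl, prodw_cons, prodw_nil, mul_one]
      rfl
    have hwH : prodw gw w ∈ H' := by
      rw [hwe]; exact mul_mem hzrH' (hN2H' (nz_map _ hh))
    have hne : prodw gw w ≠ 1 := by
      rw [hwe]
      intro e
      refine zz_not_mem hlow ?_
      rw [mul_assoc, ← map_mul, mul_eq_one_iff_eq_inv] at e
      rw [e]; exact inv_mem (psi_mem _)
    have hpw : ∀ n, prodw gw (pw n w) = prodw gw w ^ n := by
      intro n
      induction n with
      | zero => simp [pw, prodw]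
      | succ n ih => rw [pw, List.replicate_succ, List.flatten_cons, prodw_append, ← pw, ih, pow_succ']
    have h11 : prodw gw w ^ 11 = 1 := by
      rw [← hpw]
      have h18 : ∀ x ∈ pw 11 w, x < 18 := fun x hx => by
        obtain ⟨l, hl, hx⟩ := List.mem_flatten.1 hx
        rw [List.eq_of_mem_replicate hl] at hx
        exact hw18 x hx
      have hok : ∀ k, chkWords 111 Rep.tabs ([elevens.getD k []].map conv) = true →
          pw 11 w = elevens.getD k [] → prodw gw (pw 11 w) = 1 := fun k hk e => by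
        refine gw_one hk ?_ (List.mem_singleton.2 e) h18
        rw [← e]
        have : conv (pw 11 w) ∈ elevens.map conv ∨ k ≥ 5 := by
          by_cases h5 : k < 5
          · left; rw [e, List.getD_eq_getElem _ _ (show k < elevens.length from h5)]
            exact List.mem_map_of_mem (List.getElem_mem _)
          · right; omega
        rcases this with hm | h5
        · simp only [List.map_cons, List.map_nil, List.all_cons, List.all_nil, Bool.and_true]
          exact List.all_eq_true.1 elevens_lt _ hm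
        · rw [e, List.getD_eq_default _ _ (show elevens.length ≤ k from h5)]; rfl
      interval_cases j
      exacts [hok 0 eleven0_ok (by rw [hw]; decide +kernel), hok 1 eleven1_ok (by rw [hw]; decide +kernel),
        absurd rfl h2, hok 2 eleven2_ok (by rw [hw]; decide +kernel),
        hok 3 eleven3_ok (by rw [hw]; decide +kernel), hok 4 eleven4_ok (by rw [hw]; decide +kernel)]
    haveI : Fact (Nat.Prime 11) := ⟨by norm_num⟩
    have ho := orderOf_eq_prime h11 hne
    have hd : 11 ∣ Nat.card H' := by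
      rw [← ho, ← Subgroup.orderOf_mk _ hwH]; exact orderOf_dvd_natCard _
    rw [hcard, card_Hs] at hd
    norm_num at hd

end Fix

theorem eq_one_of_fix {δ : MulAut Cfsg.Spor.Ly} (hδ : ∀ x : P, δ (psi x) = psi x) : δ = 1 := by
  classical
  have hz : δ zz = zz := by
    have hns : δ zz ∉ Hs := fun h => by
      rw [← range_psi] at h
      obtain ⟨x, hx⟩ := h
      refine zz_not_mem hlow ?_
      rw [δ.injective (hx.symm.trans (hδ x).symm)]
      exact psi_mem x
    let Y : Subgroup P :=
      { carrier := {y | ∃ m ∈ M0, psi m * zz = zz * psi y}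
        one_mem' := ⟨1, one_mem _, by simp⟩
        mul_mem' := by
          rintro a b ⟨a', ha, ea⟩ ⟨b', hb, eb⟩
          exact ⟨a' * b', mul_mem ha hb, by rw [map_mul, map_mul, mul_assoc, eb, ← mul_assoc, ea, mul_assoc]⟩
        inv_mem' := by
          rintro a ⟨a', ha, ea⟩
          exact ⟨a'⁻¹, inv_mem ha, by
            rw [map_inv, map_inv, inv_mul_eq_iff_eq_mul, ← mul_assoc, ea, mul_assoc, mul_inv_cancel, mul_one]⟩ }
    have hY : M0 ≤ Y := by
      have hle : Y ≤ M0 := by
        rintro y ⟨m, hm, e⟩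
        rw [← stK_one hlow]
        show psi y • LyCert.base 1 = LyCert.base 1
        have hzi : zz⁻¹ • o = LyCert.base 1 := by
          rw [smul_o, base_one, p1, zinv_eq.1]; exact QuotientGroup.mk_mul_of_mem _ (prodw_mem (by decide))
        rw [← hzi, ← mul_smul, show psi y * zz⁻¹ = zz⁻¹ * psi m by
          rw [eq_inv_mul_iff_mul_eq, ← mul_assoc, ← e, mul_inv_cancel_right], mul_smul,
          smul_o_iff.2 (psi_mem m)]
      let f : M0 → Y := fun m => ⟨(M0_conj m.2).choose, m.1, m.2, (M0_conj m.2).choose_spec⟩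
      have hf : Function.Injective f := fun a b h => Subtype.ext (psi_injective (mul_right_cancel
        (a := psi a.1) (b := zz) (c := psi b.1) (by
          rw [(M0_conj a.2).choose_spec, (M0_conj b.2).choose_spec,
            show (M0_conj a.2).choose = (M0_conj b.2).choose from congrArg Subtype.val h])))
      exact (eq_of_le_of_card_ge hle (Nat.card_le_card_of_injective f hf)).ge
    have hg : ∀ m ∈ M0, ∃ y, psi m * zz = zz * psi y ∧ psi m * δ zz = δ zz * psi y := fun m hm => by
      obtain ⟨y, hy⟩ := M0_conj hm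
      refine ⟨y, hy, ?_⟩
      have := congrArg δ hy
      rwa [map_mul, map_mul, hδ, hδ] at this
    have hfix : ∀ v ∈ im M0, v • δ zz • o = δ zz • o := by
      rintro _ ⟨m, hm, rfl⟩
      obtain ⟨y, -, e⟩ := hg m hm
      rw [← mul_smul, e, mul_smul, smul_o_iff.2 (psi_mem y)]
    rcases fixed_V1 hlow (fun v hv => hfix v (map_mono V1P_le_M0 hv)) with h | ⟨i, h⟩
    · exact absurd (smul_o_iff.1 h) hns
    rw [h] at hfix
    have h0 : pt (pR 0 ^ i) = pt 1 := by
      rw [zero_of_fixed_M0 ((fixed_iff hlow).1 hfix), pt, map_one, Equiv.Perm.one_apply]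
    rw [(pp_eq_iff hlow).2 h0, pp, map_one, one_smul, ← zz_smul_o] at h
    have hh := smul_o_eq_smul_iff.1 h.symm
    rw [← range_psi] at hh
    obtain ⟨c, hc⟩ := hh
    have he : δ zz = zz * psi c := by rw [hc, mul_inv_cancel_left]
    have : c = 1 := by
      refine centralizer_M0 hlow fun y hy => psi_injective ?_
      obtain ⟨m, hm, e⟩ := hY hy
      have e2 := congrArg δ e
      rw [map_mul, map_mul, hδ, hδ, he, ← mul_assoc, e, mul_assoc, mul_assoc] at e2
      rw [map_mul, map_mul]
      exact (mul_left_cancel e2).symm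
    rw [he, this, map_one, mul_one]
  have hgw : ∀ x < 18, δ (gw x) = gw x := fun x hx => by
    rcases Nat.lt_or_ge x 16 with h16 | h16
    · rw [← psi_pl h16, hδ]
    · interval_cases x
      · exact hz
      · rw [gw_zinv, map_inv, hz]
  have hgen : δ.toMonoidHom = MonoidHom.id _ := by
    refine PresentedGroup.ext fun g => ?_
    show δ (PresentedGroup.of g) = PresentedGroup.of g
    rw [show (PresentedGroup.of g : Cfsg.Spor.Ly) = prodw gw (sw g) from toLy_of g, prodw, map_list_prod,
      List.map_map]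
    refine congrArg List.prod (List.map_congr_left fun x hx => ?_)
    exact hgw x (Nat.le_of_ble_eq_true (List.all_eq_true.1 (sw_lt g) x hx))
  ext x
  exact DFunLike.congr_fun hgen x

/-- Every automorphism of `Ly` is inner. -/
theorem inn_eq_top : Cfsg.Inn Cfsg.Spor.Ly = ⊤ := by
  rw [eq_top_iff]
  intro α _
  obtain ⟨g, hg⟩ := exists_conj_fix hlow α
  set β := MulAut.conj g * α
  have hH := map_Hs hlow hg
  let e : P ≃* Hs := (MonoidHom.ofInjective psi_injective).trans (MulEquiv.subgroupCongr range_psi)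
  let γ : P ≃* P := e.trans (((equivMapOfInjective Hs β.toMonoidHom β.injective).trans
    (MulEquiv.subgroupCongr hH)).trans e.symm)
  have hγ : ∀ x, psi (γ x) = β (psi x) := fun x => by
    have : e (γ x) = (equivMapOfInjective Hs β.toMonoidHom β.injective).trans
        (MulEquiv.subgroupCongr hH) (e x) := e.apply_symm_apply _
    exact congrArg Subtype.val this
  obtain ⟨y, hy⟩ := out_P (γ := γ)
  have h1 : MulAut.conj (psi y)⁻¹ * β = 1 := eq_one_of_fix hlow fun x => by
    show (psi y)⁻¹ * β (psi x) * (psi y)⁻¹⁻¹ = psi x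
    rw [← hγ, hy, map_mul, map_mul, map_inv]
    group
  refine ⟨g⁻¹ * psi y, ?_⟩
  have h2 : α = (MulAut.conj g)⁻¹ * ((MulAut.conj (psi y)⁻¹)⁻¹ * (MulAut.conj (psi y)⁻¹ * β)) := by
    simp [β]
  rw [h2, h1, mul_one, map_mul, map_inv, map_inv, inv_inv]

theorem card_out : Nat.card (Cfsg.Out Cfsg.Spor.Ly) = 1 := by
  rw [← index_eq_card, index_eq_one]
  exact inn_eq_top hlow

end

end CfsgLib.LyOut
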