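import Cfsg.Agent.LyOut.Radical

/-! The normalisers in `G₂(5)` of the unipotent group and of the first radical. -/

set_option autoImplicit false
set_option linter.style.haveILetI false
set_option maxRecDepth 100000

namespace CfsgLib.LyOut

open CfsgLib.CosetEnum CfsgLib.LyG2 CfsgLib.LyCert Subgroup
open scoped Pointwise

/-- The group generated by the elements found in the Borel subgroup. -/
def BP : Subgroup P := closure {x | ∃ j < bl.length, x = prodw pl (bl.getD j [])}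

theorem lt16_of_cj {g x v : List ℕ} (h : eqW (cj g x) v = true) : ∀ y ∈ g, y < 16 := fun y hy => by
  simp only [eqW, Bool.and_eq_true] at h
  exact lt_of_low h.1 y (by simp [cj, hy])

theorem ix_getD {i : ℕ} (hi : i < 5) : ix.getD i 0 < 6 ∧ ix.getD i 0 ≠ 1 := by
  interval_cases i <;> decide

theorem exists_ix {i : ℕ} (hi : i < 6) (h1 : i ≠ 1) : ∃ k < 5, ix.getD k 0 = i := by
  interval_cases i
  exacts [⟨0, by norm_num, rfl⟩, absurd rfl h1, ⟨1, by norm_num, rfl⟩, ⟨2, by norm_num, rfl⟩,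
    ⟨3, by norm_num, rfl⟩, ⟨4, by norm_num, rfl⟩]

theorem bl_spec {j : ℕ} (hj : j < bl.length) : (∀ x ∈ bl.getD j [], x < 16) ∧
    prodw pl (bl.getD j []) ∈ Nz UP ∧ prodw pl (bl.getD j []) ∈ Nz V2P := by
  have h := List.all_eq_true.1 bl_ok j (List.mem_range.2 hj)
  rw [Bool.and_eq_true] at h
  have h1 := h.1
  rw [okIn, Bool.and_eq_true] at h1
  have hl := lt16_of_cj h1.2
  have h2 : ∀ i < 6, i ≠ 1 → prodw pl (bl.getD j []) * pR i * (prodw pl (bl.getD j []))⁻¹ ∈ V2P := by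
    intro i hi hne
    obtain ⟨k, hk, rfl⟩ := exists_ix hi hne
    have := mem_of_okV2 (List.all_eq_true.1 h.2 k (List.mem_range.2 hk))
    rwa [prodw_cj hl] at this
  refine ⟨hl, mem_nz_grp fun i hi _ => ?_, mem_nz_grp fun i hi hI => h2 i hi hI⟩
  by_cases hne : i = 1
  · subst hne
    have := mem_of_okIn h.1
    rwa [prodw_cj hl] at this
  · exact V2P_le (h2 i hi hne)

theorem BP_le : BP ≤ Nz UP ⊓ Nz V2P := by
  rw [BP, closure_le]
  rintro _ ⟨j, hj, rfl⟩
  exact ⟨(bl_spec hj).2.1, (bl_spec hj).2.2⟩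

theorem map_conj_eq_of_card {W V : Subgroup P} {n : P} (h : n ∈ Nz UP) (hV : V ≤ UP)
    (hUV : UP ≤ Nz V) (hW : W = V.map (MulAut.conj n).toMonoidHom) : W ≤ UP ∧ UP ≤ Nz W := by
  subst hW
  have e : UP.map (MulAut.conj n).toMonoidHom = UP := mem_nz_iff.1 h
  refine ⟨(map_mono hV).trans_eq e, fun u hu => ?_⟩
  rw [← e] at hu
  obtain ⟨v, hv, rfl⟩ := hu
  exact nz_map _ (hUV hv)

theorem nzU_le_V1 : Nz UP ≤ Nz V1P := by
  intro n hn
  set W := V1P.map (MulAut.conj n).toMonoidHom with hW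
  obtain ⟨h1, h2⟩ := map_conj_eq_of_card hn V1P_le UP_le_nz_V1 hW
  refine mem_nz_iff.2 (eq_V1_of_fixed h1 h2 ?_ (q := act n 0) ?_)
  · rw [card_map_of_injective (MulAut.conj n).injective, card_V1P]
  · rintro _ ⟨v, hv, rfl⟩
    show act (n * v * n⁻¹) (act n 0) = act n 0
    rw [← Equiv.Perm.mul_apply, ← map_mul, inv_mul_cancel_right, map_mul, Equiv.Perm.mul_apply,
      (fixed_V1_of_lt (q := 0) (by norm_num)).1 v hv]

theorem mW_spec {k : ℕ} (hk : k < 8) : (∀ x ∈ mW k, x < 16) ∧ prodw pl (mW k) ∈ Nz V1P ∧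
    prodw pl (mW k) ∈ M0 := by
  have hl := (mList_spec hk).1
  refine ⟨hl, mem_nz_grp fun i hi (h1 : 1 ≤ i) => ?_, ?_⟩
  · have h := mem_of_okIn (List.all_eq_true.1 (List.all_eq_true.1 m_ok k (List.mem_range.2 hk)) (i - 1)
      (List.mem_range.2 (by omega)))
    rwa [prodw_cj hl, show i - 1 + 1 = i by omega] at h
  · rw [← wGroup_mList]
    exact wGroup_mono (List.mem_map.2 ⟨k, List.mem_range.2 hk, rfl⟩)

theorem M0_le_nz : M0 ≤ Nz V1P := by
  rw [← wGroup_mList, wGroup, closure_le]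
  rintro _ ⟨w, hw, rfl⟩
  obtain ⟨k, hk, rfl⟩ := List.mem_map.1 hw
  exact (mW_spec (List.mem_range.1 hk)).2.1

theorem V1P_le_M0 : V1P ≤ M0 := fun _ hv =>
  mem_M0.2 ((fixed_V1_of_lt (q := 0) (by norm_num)).1 _ hv)

/-- The element of a coset representative. -/
def repP (j : ℕ) : P := prodw pl (rep j)

theorem nzV1_eq {n : P} (hn : n ∈ Nz V1P) : ∃ j < 6, ∃ β ∈ BP, n = repP j * β := by
  set S : Set P := {x | ∃ k < 9, x = prodw pl (nGen k)}
  have hgen : n ∈ closure S := by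
    have hM : M0 ≤ closure S := by
      rw [← wGroup_mList, wGroup]
      refine closure_mono ?_
      rintro _ ⟨w, hw, rfl⟩
      obtain ⟨k, hk, rfl⟩ := List.mem_map.1 hw
      have hk := List.mem_range.1 hk
      refine ⟨k, by omega, ?_⟩
      rw [nGen, show Nat.blt k 8 = true by rw [Nat.blt_eq]; exact hk, cond_true]
    have h0 : pR 0 ∈ closure S := subset_closure ⟨8, by norm_num, rfl⟩
    have hfix : Fixed V1P (act n 0) := fun v hv => by
      have hm : n⁻¹ * v * n ∈ V1P := by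
        have := conj_mem_of_nz (inv_mem hn) hv
        rwa [inv_inv] at this
      have h := (fixed_V1_of_lt (q := 0) (by norm_num)).1 _ hm
      rw [← Equiv.Perm.mul_apply, ← map_mul]
      conv_rhs => rw [← h, ← Equiv.Perm.mul_apply, ← map_mul, ← mul_assoc, mul_inv_cancel_left]
    obtain ⟨-, e⟩ := fixed_V1_of_lt (fixed_V1_lt hfix)
    set g := pR 0 ^ orb.getD (act n 0).val 0
    have hm : g⁻¹ * n ∈ M0 := mem_M0.2 (by
      rw [pt_mul, show pt n = act n 0 from rfl, ← e, pt, ← Equiv.Perm.mul_apply, ← map_mul,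
        inv_mul_cancel, map_one, Equiv.Perm.one_apply])
    rw [show n = g * (g⁻¹ * n) by group]
    exact mul_mem (pow_mem h0 _) (hM hm)
  have hfin : n ∈ Submonoid.closure S := by
    rw [← Subgroup.closure_toSubmonoid_of_finite]; exact hgen
  suffices H : ∀ j < 6, ∃ j' < 6, ∃ β ∈ BP, n * repP j = repP j' * β by
    obtain ⟨j', hj', β, hβ, e⟩ := H 0 (by norm_num)
    exact ⟨j', hj', β, hβ, by rw [← e, show repP 0 = 1 from rfl, mul_one]⟩
  clear hn hgen
  induction hfin using Submonoid.closure_induction with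
  | mem x hx =>
    obtain ⟨k, hk, rfl⟩ := hx
    intro j hj
    have h := List.all_eq_true.1 (List.all_eq_true.1 tr_ok k (List.mem_range.2 hk)) j (List.mem_range.2 hj)
    simp only [Bool.and_eq_true, Nat.blt_eq] at h
    obtain ⟨h1, h2, h3⟩ := h
    have e := eqW_pl h3
    rw [prodw_append, prodw_append] at e
    exact ⟨_, h1, _, subset_closure ⟨_, h2, rfl⟩, e⟩
  | one => exact fun j hj => ⟨j, hj, 1, one_mem _, by rw [one_mul, mul_one]⟩
  | mul x y _ _ hx hy =>
    intro j hj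
    obtain ⟨j1, hj1, β1, hβ1, e1⟩ := hy j hj
    obtain ⟨j2, hj2, β2, hβ2, e2⟩ := hx j1 hj1
    exact ⟨j2, hj2, β2 * β1, mul_mem hβ2 hβ1, by
      rw [mul_assoc, e1, ← mul_assoc, e2, mul_assoc]⟩

theorem mem_UP_eq {y : P} (hy : y ∈ UP) : ∃ i : ℕ, ∃ v ∈ V1P, y = pR 0 ^ i * v := by
  rw [show UP = closure (insert (pR 0) (grp (geI 1) : Set P)) from
    (grp_succ (show 0 < 6 by norm_num)).symm] at hy
  obtain ⟨i, -, v, hv, e⟩ := mem_closure_insert (pR_nz_succ (show 0 < 6 by norm_num))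
    (by rw [pow_five (by norm_num)]; exact one_mem _) hy
  exact ⟨i, v, hv, e⟩

theorem pR0_fixed {q : Pt} (h : Fixed V1P q) (k : ℕ) : Fixed V1P (act (pR 0 ^ k)⁻¹ q) := fun v hv => by
  have hk : (pR 0 ^ k)⁻¹ ∈ Nz V1P := inv_mem (pow_mem (pR_nz_succ (show 0 < 6 by norm_num)) k)
  have hm := h _ (conj_mem_of_nz (inv_mem hk) hv)
  conv_rhs => rw [← hm]
  simp only [← Equiv.Perm.mul_apply, ← map_mul]
  congr 2
  group

theorem rep_not_nzU {j : ℕ} (hj : j < 5) : repP (j + 1) ∉ Nz UP := by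
  intro hn
  have h := List.all_eq_true.1 rep_ok j (List.mem_range.2 hj)
  simp only [Bool.and_eq_true, Bool.not_eq_true', Nat.blt_eq] at h
  obtain ⟨hl, hq, hne⟩ := h
  have hr := lt_of_low hl
  set r := rep (j + 1)
  set y := wi r ++ [2] ++ r
  have hb : prodw pl ([2] : List ℕ) = pR 0 := by rw [pR, b_eq]
  have hy : ∀ x ∈ y, x < 16 := by
    intro x hx
    simp only [y, List.mem_append, List.mem_singleton] at hx
    rcases hx with (hx | rfl) | hx
    exacts [wi_low hr x hx, by norm_num, hr x hx]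
  have hyU : prodw pl y ∈ UP := by
    rw [show prodw pl y = (repP (j + 1))⁻¹ * pR 0 * repP (j + 1) by
      rw [prodw_append, prodw_append, prodw_pl_wi hr, hb]; rfl]
    have := conj_mem_of_nz (inv_mem hn) (pR_mem (show 0 < 6 by norm_num) (Nat.le_refl 0) : pR 0 ∈ UP)
    rwa [inv_inv] at this
  obtain ⟨i, v, hv, e⟩ := mem_UP_eq hyU
  set q : Pt := ⟨dq.getD j 0, lt_trans hq (by norm_num)⟩
  have hf : Fixed V1P q := (fixed_V1_of_lt hq).1
  have key : act (prodw pl ([2] ++ y))⁻¹ q = act (prodw pl (y ++ [2]))⁻¹ q := by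
    have f1 := pR0_fixed hf i
    have f2 := pR0_fixed hf (1 + i)
    rw [prodw_append pl [2] y, prodw_append pl y [2], hb, e]
    simp only [mul_inv_rev, map_mul, Equiv.Perm.mul_apply]
    have a1 : act v⁻¹ (act (pR 0 ^ i)⁻¹ q) = act (pR 0 ^ i)⁻¹ q := f1 _ (inv_mem hv)
    have a2 : act v⁻¹ (act (pR 0 ^ (1 + i))⁻¹ q) = act (pR 0 ^ (1 + i))⁻¹ q := f2 _ (inv_mem hv)
    rw [a1, ← Equiv.Perm.mul_apply (act _) (act (pR 0)⁻¹), ← map_mul, ← mul_inv_rev,
      ← pow_succ', add_comm i 1, a2, ← Equiv.Perm.mul_apply, ← map_mul, ← mul_inv_rev,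
      ← pow_succ, add_comm i 1]
  have h2 : ∀ x ∈ ([2] : List ℕ), x < 16 := by decide
  have l1 : ∀ x ∈ [2] ++ y, x < 16 := fun x hx => (List.mem_append.1 hx).elim (h2 x) (hy x)
  have l2 : ∀ x ∈ y ++ [2], x < 16 := fun x hx => (List.mem_append.1 hx).elim (hy x) (h2 x)
  have k := congrArg Fin.val key
  rw [map_inv, map_inv, act_word l1, act_word l2] at k
  rw [show (q : ℕ) = dq.getD j 0 from rfl] at k
  rw [k] at hne
  simp at hne

/-- The normaliser of the unipotent group. -/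
theorem nzU_eq : Nz UP = BP := by
  refine le_antisymm (fun n hn => ?_) (BP_le.trans inf_le_left)
  obtain ⟨j, hj, β, hβ, rfl⟩ := nzV1_eq (nzU_le_V1 hn)
  rcases Nat.eq_zero_or_pos j with rfl | hp
  · rwa [show repP 0 = 1 from rfl, one_mul]
  · refine absurd ((Subgroup.mul_mem_cancel_right _ (BP_le hβ).1).1 hn) ?_
    obtain ⟨i, rfl⟩ : ∃ i, j = i + 1 := ⟨j - 1, by omega⟩
    exact rep_not_nzU (by omega)

theorem nzU_le_V2 : Nz UP ≤ Nz V2P := nzU_eq ▸ BP_le.trans inf_le_right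

theorem uP_nz_V1 : uP ∈ Nz V1P := by
  rw [uP, show ([0, 0] : List ℕ) = [0] ++ [0] from rfl, prodw_append]
  have h : prodw pl [0] ∈ Nz V1P := by
    rw [show ([0] : List ℕ) = mW 5 from rfl]; exact (mW_spec (by norm_num)).2.1
  exact mul_mem h h

theorem uP_mem : uP ∈ Nz UP := by
  refine mem_nz_grp fun i hi _ => ?_
  rcases Nat.eq_zero_or_pos i with rfl | h
  · rw [uP_conj.1]; exact pR_mem hi (Nat.zero_le _)
  · exact V1P_le (conj_mem_of_nz uP_nz_V1 (pR_mem hi h))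

theorem hW_spec {j : ℕ} (hj : j < 6) : (∀ x ∈ hW.getD j [], x < 16) ∧
    prodw pl (hW.getD j []) ∈ Nz V2P := by
  have h := List.all_eq_true.1 h_ok j (List.mem_range.2 hj)
  rw [Bool.and_eq_true] at h
  refine ⟨lt_of_low h.1, mem_nz_grp fun i hi hI => ?_⟩
  obtain ⟨k, hk, rfl⟩ := exists_ix hi hI
  have := mem_of_okV2 (List.all_eq_true.1 h.2 k (List.mem_range.2 hk))
  rwa [prodw_cj (lt_of_low h.1)] at this

theorem eP_nz : prodw pl [8] ∈ Nz V2P := by
  refine mem_nz_grp fun i hi hI => ?_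
  obtain ⟨k, hk, rfl⟩ := exists_ix hi hI
  have := mem_of_okV2 (List.all_eq_true.1 e_ok k (List.mem_range.2 hk))
  rwa [prodw_cj (by decide)] at this

theorem aP_nz : prodw pl [0] ∈ Nz V1P := by
  rw [show ([0] : List ℕ) = mW 5 from rfl]; exact (mW_spec (by norm_num)).2.1

theorem bP_eq : prodw pl [2] = pR 0 := by rw [pR, b_eq]

theorem cP_mem : prodw pl [4] ∈ UP := grp_mono (fun i _ _ => Nat.zero_le i) (mem_of_okIn c_ok)

end CfsgLib.LyOut
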