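import Cfsg.Agent.LyOut.Unip

/-! The radicals among the subgroups of index five, and the normaliser of the unipotent group. -/

set_option autoImplicit false
set_option linter.style.haveILetI false
set_option maxRecDepth 100000

namespace CfsgLib.LyOut

open CfsgLib.CosetEnum CfsgLib.LyG2 CfsgLib.LyCert Subgroup
open scoped commutatorElement Pointwise

/-- The common derived group of the second radical. -/
abbrev W3P : Subgroup P := grp (geI 3)

theorem comm_gens {I : Set ℕ} {m : ℕ} (h : ∀ k l, k < l → l < 6 → k ∈ I → l ∈ I →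
    ⁅pR k, pR l⁆ ∈ grp (geI m)) (hn : ∀ i < 6, i ∈ I → pR i ∈ Nz (grp (geI m))) :
    ⁅grp I, grp I⁆ ≤ grp (geI m) := by
  refine commutator_le_of_gens (grp_le_iff.2 hn) ?_
  rintro _ ⟨k, ⟨hk, hk6⟩, rfl⟩ _ ⟨l, ⟨hl, hl6⟩, rfl⟩
  rcases Nat.lt_trichotomy k l with hkl | rfl | hkl
  · exact h k l hkl hl6 hk hl
  · simp
  · rw [← commutatorElement_inv]; exact inv_mem (h l k hkl hk6 hl hk)

theorem V1P_comm : ⁅V1P, V1P⁆ ≤ grp (geI 5) := by
  refine comm_gens (fun k l hkl hl (h1 : 1 ≤ k) _ => ?_) fun i hi _ => pR_nz_deep (Or.inr rfl) hi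
  have := comm_deep hkl hl (by omega)
  rwa [if_neg (by omega)] at this

theorem V1P_class_two {x y w : P} (hx : x ∈ V1P) (hy : y ∈ V1P) (hw : w ∈ V1P) :
    ⁅⁅x, y⁆, w⁆ = 1 := by
  rw [commutatorElement_eq_one_iff_mul_comm]
  have hc : grp (geI 5) ≤ centralizer (V1P : Set P) := by
    refine grp_le_iff.2 fun i hi (h5 : 5 ≤ i) => ?_
    obtain rfl : i = 5 := by omega
    rw [show (V1P : Subgroup P) = closure (pR '' (geI 1 ∩ {i | i < 6})) from rfl, centralizer_closure,
      mem_centralizer_iff]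
    rintro _ ⟨k, ⟨hk1, hk6⟩, rfl⟩
    rcases eq_or_ne k 5 with rfl | hne
    · rfl
    · have hk6 : k < 6 := hk6
      obtain ⟨e, -⟩ := conj_eq (show k < 5 by omega) hi
      have hs := shape (show k < 5 by omega) hi (by norm_num)
      have hk1 : 1 ≤ k := hk1
      rw [if_neg (by omega)] at hs
      rw [prodw_nf, hs.1, hs.2 0 (by norm_num) (by norm_num) (by norm_num),
        hs.2 1 (by norm_num) (by norm_num) (by norm_num), hs.2 2 (by norm_num) (by norm_num) (by norm_num),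
        hs.2 3 (by norm_num) (by norm_num) (by norm_num), hs.2 4 (by norm_num) (by norm_num) (by norm_num)] at e
      simp only [pow_zero, one_mul, pow_one] at e
      exact mul_inv_eq_iff_eq_mul.1 e
  exact (mem_centralizer_iff.1 (hc (V1P_comm (commutator_mem_commutator hx hy))) w hw).symm

theorem dW_ne : ⁅⁅pR 0, pR 2⁆, pR 0⁆ ≠ 1 := by
  intro e
  have h := d_ok
  simp only [Bool.and_eq_true, Nat.blt_eq, Bool.not_eq_true'] at h
  have h0 := gW_low (show 0 < 6 by norm_num)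
  have h2 := gW_low (show 2 < 6 by norm_num)
  have hcm : ∀ {u v : List ℕ}, (∀ x ∈ u, x < 16) → (∀ x ∈ v, x < 16) →
      (∀ x ∈ cm u v, x < 16) ∧ prodw pl (cm u v) = ⁅prodw pl u, prodw pl v⁆ := by
    intro u v hu hv
    refine ⟨fun x hx => ?_, by
      rw [cm, prodw_append, prodw_append, prodw_append, prodw_pl_wi hu, prodw_pl_wi hv,
        commutatorElement_def]⟩
    simp only [cm, List.mem_append] at hx
    rcases hx with ((hx | hx) | hx) | hx
    exacts [hu x hx, hv x hx, wi_low hu x hx, wi_low hv x hx]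
  obtain ⟨hl, e1⟩ := hcm h0 h2
  obtain ⟨hl2, e2⟩ := hcm hl h0
  have h3 : walk dW dpt = dpt := by
    have h4 := act_word (w := dW) hl2 ⟨dpt, h.1⟩
    rw [show prodw pl dW = 1 by rw [dW, e2, e1]; exact e, map_one, inv_one,
      Equiv.Perm.one_apply] at h4
    exact h4.symm
  rw [h3] at h
  simp at h

theorem cE_vals : cE' 1 4 = [0, 0, 0, 0, 1, 1] ∧ cE' 0 3 = [0, 0, 0, 1, 3, 0] ∧
    cE' 0 2 = [0, 0, 1, 3, 2, 3] ∧ cE' 2 3 = [0, 0, 0, 1, 0, 3] := by decide +kernel

/-- A subgroup holding commutators of the root elements holds the deep root elements. -/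
theorem deep_mem {W : Subgroup P} (hn : ∀ i ∈ [2, 3, 4], pR i ∈ Nz W)
    (h5 : ⁅pR 2, pR 3⁆ ∈ W) (h4 : ⁅pR 0, pR 3⁆ ∈ W) (h3 : ⁅pR 0, pR 2⁆ ∈ W) :
    pR 3 ∈ W ∧ pR 4 ∈ W ∧ pR 5 ∈ W := by
  obtain ⟨-, e03, e02, e23⟩ := cE_vals
  have key : ∀ {k l i : ℕ} {x : P}, ⁅pR k, pR l⁆ ∈ W → pR l ∈ Nz W →
      pR k * pR l * (pR k)⁻¹ = pR l * x → i = l → x ∈ W := by
    intro k l i x hc hl e _
    have := conj_mem_of_nz (inv_mem hl) hc
    rw [inv_inv, commutatorElement_def, e] at this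
    simpa [mul_assoc] using this
  have root : ∀ {i n : ℕ}, i < 6 → n.Coprime 5 → pR i ^ n ∈ W → pR i ∈ W := by
    intro i n hi hn hm
    obtain ⟨m, hm'⟩ := exists_pow_eq_self_of_coprime (x := pR i) (n := n)
      (hn.coprime_dvd_right (orderOf_dvd_of_pow_eq_one (pow_five hi)))
    rw [← hm']; exact pow_mem hm m
  have a5 : pR 5 ∈ W := by
    refine root (n := 3) (by norm_num) (by norm_num) (key (i := 3) h5 (hn 3 (by simp)) ?_ rfl)
    rw [(conj_eq (show 2 < 3 by norm_num) (by norm_num)).1, prodw_nf, e23]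
    simp
  have a4 : pR 4 ∈ W := by
    refine root (n := 3) (by norm_num) (by norm_num) (key (i := 3) h4 (hn 3 (by simp)) ?_ rfl)
    rw [(conj_eq (show 0 < 3 by norm_num) (by norm_num)).1, prodw_nf, e03]
    simp
  refine ⟨root (n := 3) (by norm_num) (by norm_num) ?_, a4, a5⟩
  have h := key (i := 2) (x := pR 3 ^ 3 * (pR 4 ^ 2 * pR 5 ^ 3)) h3 (hn 2 (by simp)) (by
    rw [(conj_eq (show 0 < 2 by norm_num) (by norm_num)).1, prodw_nf, e02]
    simp [mul_assoc]) rfl
  exact (W.mul_mem_cancel_right (mul_mem (pow_mem a4 2) (pow_mem a5 3))).1 h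

theorem V2P_comm : ⁅V2P, V2P⁆ = W3P := by
  refine le_antisymm (comm_gens (fun k l hkl hl _ (h1 : l ≠ 1) => ?_)
    fun i hi _ => pR_nz_deep (Or.inl rfl) hi) ?_
  · have := comm_deep hkl hl h1
    refine grp_mono (fun i _ (h : (if k = 0 then 3 else 5) ≤ i) => ?_) this
    show 3 ≤ i
    split_ifs at h <;> omega
  · haveI : (⁅V2P, V2P⁆.subgroupOf V2P).Normal := by
      constructor
      intro a ha g
      rw [mem_subgroupOf] at ha ⊢
      exact conj_mem_of_nz (show g.1 ∈ Nz ⁅V2P, V2P⁆ from mem_nz_iff.2 (by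
        rw [map_commutator, mem_nz_iff.1 (le_normalizer g.2)])) ha
    have hn : ∀ i < 6, i ≠ 1 → pR i ∈ Nz ⁅V2P, V2P⁆ := fun i hi h => mem_nz_iff.2 (by
      rw [map_commutator, mem_nz_iff.1 (le_normalizer (pR_mem hi h))])
    have hm : ∀ i < 6, i ≠ 1 → pR i ∈ V2P := fun i hi h => pR_mem hi h
    obtain ⟨a3, a4, a5⟩ := deep_mem (W := ⁅V2P, V2P⁆)
      (fun i hi => by simp at hi; exact hn i (by omega) (by omega))
      (commutator_mem_commutator (hm 2 (by norm_num) (by norm_num)) (hm 3 (by norm_num) (by norm_num)))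
      (commutator_mem_commutator (hm 0 (by norm_num) (by norm_num)) (hm 3 (by norm_num) (by norm_num)))
      (commutator_mem_commutator (hm 0 (by norm_num) (by norm_num)) (hm 2 (by norm_num) (by norm_num)))
    refine grp_le_iff.2 fun i hi (h : 3 ≤ i) => ?_
    interval_cases i <;> assumption

/-- The index five subgroups normalised by the unipotent group. -/
theorem index_five_cases {W : Subgroup P} (hle : W ≤ UP) (hn : UP ≤ Nz W)
    (hc : Nat.card W = 3125) :
    W = V2P ∨ ∃ i < 5, (∀ j < 6, 2 ≤ j → pR j ∈ W) ∧ pR 1 * pR 0 ^ i ∈ W ∧ (i = 0 → W = V1P) ∧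
      pR 0 ∉ W := by
  have hU : ∀ i < 6, pR i ∈ UP := fun i hi => pR_mem hi (Nat.zero_le i)
  have hcomm : ∀ {k l : ℕ}, k < 6 → l < 6 → ⁅pR k, pR l⁆ ∈ W := fun hk hl =>
    commutator_mem_of_index_five hle hn (by rw [card_UP, hc]) (hU _ hk) (hU _ hl)
  have hN : ∀ i < 6, pR i ∈ Nz W := fun i hi => hn (hU i hi)
  obtain ⟨a3, a4, a5⟩ := deep_mem (W := W) (fun i hi => by simp at hi; exact hN i (by omega))
    (hcomm (by norm_num) (by norm_num)) (hcomm (by norm_num) (by norm_num))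
    (hcomm (by norm_num) (by norm_num))
  have a2 : pR 2 ∈ W := by
    have h := hcomm (k := 0) (l := 1) (by norm_num) (by norm_num)
    have := conj_mem_of_nz (inv_mem (hN 1 (by norm_num))) h
    rw [inv_inv, commutatorElement_def, (conj_eq (show 0 < 1 by norm_num) (by norm_num)).1, prodw_nf,
      cE01] at this
    simp [mul_assoc] at this
    have h4 : pR 2 ^ 4 ∈ W :=
      (W.mul_mem_cancel_right (mul_mem a3 (mul_mem a4 a5))).1 (by simpa [mul_assoc] using this)
    have := pow_mem h4 4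
    rwa [← pow_mul, show 4 * 4 = 5 * 3 + 1 from rfl, pow_add, pow_mul, pow_five (by norm_num), one_pow,
      one_mul, pow_one] at this
  have hdeep : ∀ j < 6, 2 ≤ j → pR j ∈ W := fun j hj h2 => by interval_cases j <;> assumption
  by_cases h0 : pR 0 ∈ W
  · left
    refine (eq_of_le_of_card_ge (H := V2P) (K := W) (grp_le_iff.2 fun j hj (h1 : j ≠ 1) => ?_)
      (by rw [hc, card_V2P])).symm
    rcases Nat.eq_zero_or_pos j with rfl | h
    · exact h0
    · exact hdeep j hj (by omega)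
  right
  have h05 : pR 0 ^ 5 ∈ W := by rw [pow_five (by norm_num)]; exact one_mem _
  have he : closure (insert (pR 0) (W : Set P)) = UP := by
    refine eq_of_le_of_card_ge ((closure_le _).2 (Set.insert_subset_iff.2 ⟨hU 0 (by norm_num), hle⟩)) ?_
    rw [card_closure_insert (hN 0 (by norm_num)) h05 h0, hc, card_UP]
  obtain ⟨j, hj, x, hx, e⟩ := mem_closure_insert (hN 0 (by norm_num)) h05 (he ▸ hU 1 (by norm_num))
  refine ⟨(5 - j) % 5, Nat.mod_lt _ (by norm_num), hdeep, ?_, fun hi => ?_, h0⟩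
  · have h1 : pR 1 * pR 0 ^ (5 - j) ∈ W := by
      rw [show pR 1 * pR 0 ^ (5 - j) = pR 0 ^ j * x * (pR 0 ^ j)⁻¹ * (pR 0 ^ j * pR 0 ^ (5 - j)) by
        rw [e]; group, ← pow_add, show j + (5 - j) = 5 by omega, pow_five (by norm_num), mul_one]
      exact conj_mem_of_nz (pow_mem (hN 0 (by norm_num)) j) hx
    rwa [show pR 0 ^ ((5 - j) % 5) = pR 0 ^ (5 - j) from
      (pow_eq_pow_mod (5 - j) (pow_five (by norm_num))).symm]
  · obtain rfl : j = 0 := by omega
    rw [pow_zero, one_mul] at e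
    refine (eq_of_le_of_card_ge (H := V1P) (K := W) (grp_le_iff.2 fun i hi' (h1 : 1 ≤ i) => ?_)
      (by rw [hc, card_V1P])).symm
    rcases eq_or_lt_of_le h1 with rfl | h
    · exact e ▸ hx
    · exact hdeep i hi' h

/-- The torus element used. -/
def uP : P := prodw pl [0, 0]

theorem uP_conj : uP * pR 0 * uP⁻¹ = pR 0 ∧ uP * pR 1 * uP⁻¹ = pR 1 * pR 1 := by
  have hl : ∀ x ∈ ([0, 0] : List ℕ), x < 16 := by decide
  obtain ⟨h0, h1⟩ := u_ok
  have e0 := eqW_pl h0
  have e1 := eqW_pl h1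
  rw [prodw_cj hl] at e0 e1
  rw [prodw_append] at e1
  exact ⟨e0, e1⟩

theorem cases_of_torus {W : Subgroup P} (hle : W ≤ UP) (hn : UP ≤ Nz W) (hu : uP ∈ Nz W)
    (hc : Nat.card W = 3125) : W = V2P ∨ W = V1P := by
  rcases index_five_cases hle hn hc with h | ⟨i, hi, -, hm, hV, h0⟩
  · exact Or.inl h
  refine Or.inr (hV ?_)
  obtain ⟨e0, e1⟩ := uP_conj
  have h := conj_mem_of_nz hu hm
  rw [show uP * (pR 1 * pR 0 ^ i) * uP⁻¹ = (uP * pR 1 * uP⁻¹) * (uP * pR 0 ^ i * uP⁻¹) by group,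
    ← conj_pow, e0, e1, mul_assoc (pR 1) (pR 1)] at h
  have h1 : pR 1 ∈ W := (W.mul_mem_cancel_right hm).1 h
  have h2 : pR 0 ^ i ∈ W := (W.mul_mem_cancel_left h1).1 hm
  by_contra hne
  refine h0 ?_
  obtain ⟨m, hm'⟩ := exists_pow_eq_self_of_coprime (x := pR 0) (n := i)
    (((Nat.prime_five.coprime_iff_not_dvd).2 fun hd =>
      absurd (Nat.le_of_dvd (Nat.pos_of_ne_zero hne) hd) (by omega)).symm.coprime_dvd_right
      (orderOf_dvd_of_pow_eq_one (pow_five (by norm_num))))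
  rw [← hm']; exact pow_mem h2 m

/-! ### Fixed points -/

/-- A point fixed by a subgroup. -/
def Fixed (H : Subgroup P) (q : Pt) : Prop := ∀ v ∈ H, act v q = q

theorem act_fix_iff {w : List ℕ} (hw : ∀ x ∈ w, x < 16) (q : Pt) :
    act (prodw pl w) q = q ↔ walk w q = q := by
  rw [← act_word hw, Fin.val_inj, Equiv.Perm.inv_eq_iff_eq, eq_comm]

theorem fixes_eq {ws : List (List ℕ)} {q : ℕ} :
    fixes ws q = true ↔ ∀ w ∈ ws, walk w q = q := by
  simp [fixes, List.all_eq_true]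

theorem fixed_grp {I : Set ℕ} {q : Pt} (h : ∀ i < 6, i ∈ I → walk (gW i) q = q) :
    Fixed (grp I) q := by
  have : grp I ≤ (MulAction.stabilizer (Equiv.Perm Pt) q).comap act :=
    grp_le_iff.2 fun i hi hI => (act_fix_iff (gW_low hi) q).2 (h i hi hI)
  exact fun v hv => this hv

theorem walk_of_fixed {H : Subgroup P} {q : Pt} (h : Fixed H q) {w : List ℕ}
    (hw : ∀ x ∈ w, x < 16) (hm : prodw pl w ∈ H) : walk w q = q :=
  (act_fix_iff hw q).1 (h _ hm)

theorem allR_pt {f : ℕ → Bool} (h : allR f 15 0 = true) (q : Pt) : f q = true :=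
  allR_spec 15 0 h q (Nat.zero_le _) (by omega)

theorem blt_pt (q : Pt) : Nat.blt q.val 19530 = true := by rw [Nat.blt_eq]; exact q.isLt

theorem fixed_V1_lt {q : Pt} (h : Fixed V1P q) : q.val < 5 := by
  have h1 := allR_pt fix1 q
  rw [blt_pt, Bool.true_and, Bool.or_eq_true] at h1
  refine Nat.le_of_ble_eq_true (h1.resolve_left ?_)
  rw [Bool.not_eq_true, Bool.not_eq_false', fixes_eq]
  intro w hw
  obtain ⟨i, hi, rfl⟩ := List.mem_map.1 hw
  have hi := List.mem_range.1 hi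
  exact walk_of_fixed h (gW_low (by omega)) (pR_mem (by omega) (show 1 ≤ i + 1 by omega))

theorem fixed_V1_of_lt {q : Pt} (h : q.val < 5) : Fixed V1P q ∧ pt (pR 0 ^ orb.getD q 0) = q := by
  have h1 := List.all_eq_true.1 fix1' q.val (List.mem_range.2 h)
  rw [Bool.and_eq_true, fixes_eq] at h1
  refine ⟨fixed_grp fun i hi (h1i : 1 ≤ i) => h1.1 _ (List.mem_map.2 ⟨i - 1, List.mem_range.2 (by omega),
    by rw [Nat.sub_add_cancel h1i]⟩), Fin.ext ?_⟩
  have hl : ∀ x ∈ pw (orb.getD q 0) [2], x < 16 := by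
    intro x hx
    simp [pw] at hx
    omega
  rw [show pR 0 ^ orb.getD q 0 = prodw pl (pw (orb.getD q 0) [2]) by rw [prodw_pw, pR, b_eq],
    pt_word hl]
  exact Nat.eq_of_beq_eq_true h1.2

theorem not_fixed_V2 (q : Pt) : ¬ Fixed V2P q := by
  intro h
  have h1 := allR_pt fix2 q
  rw [blt_pt, Bool.true_and, Bool.not_eq_true', ← Bool.not_eq_true, fixes_eq] at h1
  refine h1 fun w hw => ?_
  obtain ⟨i, hi, rfl⟩ := List.mem_map.1 hw
  simp [ix] at hi
  exact walk_of_fixed h (gW_low (by omega)) (pR_mem (by omega) (show i ≠ 1 by omega))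

theorem eq_V1_of_fixed {W : Subgroup P} (hle : W ≤ UP) (hn : UP ≤ Nz W) (hc : Nat.card W = 3125)
    {q : Pt} (h : Fixed W q) : W = V1P := by
  rcases index_five_cases hle hn hc with rfl | ⟨i, hi, hd, hm, hV, -⟩
  · exact absurd h (not_fixed_V2 q)
  rcases Nat.eq_zero_or_pos i with h0 | h0
  · exact hV h0
  exfalso
  have h1 := List.all_eq_true.1 fixW i (by interval_cases i <;> simp)
  have h2 := allR_pt h1 q
  rw [blt_pt, Bool.true_and, Bool.not_eq_true', ← Bool.not_eq_true, fixes_eq] at h2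
  refine h2 fun w hw => ?_
  rcases List.mem_cons.1 hw with rfl | hw
  · refine walk_of_fixed h (fun x hx => ?_) ?_
    · rcases List.mem_append.1 hx with hx | hx
      · exact gW_low (by norm_num) x hx
      · exact gW_low (show 0 < 6 by norm_num) x (by
          simp [pw, List.mem_flatten] at hx; exact hx.2)
    · rw [prodw_append, prodw_pw]; exact hm
  · obtain ⟨l, hl, rfl⟩ := List.mem_map.1 hw
    have hl := List.mem_range.1 hl
    exact walk_of_fixed h (gW_low (by omega)) (hd (l + 2) (by omega) (by omega))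

end CfsgLib.LyOut
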