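import Cfsg.Agent.LyOut.Check
import Cfsg.Agent.LyOut.General

/-! The unipotent group of `G₂(5)`, its order and its two radicals. -/

set_option autoImplicit false
set_option maxRecDepth 100000

namespace CfsgLib.LyOut

open CfsgLib.CosetEnum CfsgLib.LyG2 CfsgLib.LyCert Subgroup
open scoped commutatorElement Pointwise

/-- A root element. -/
def pR (i : ℕ) : P := prodw pl (gW i)

/-- The group generated by the root elements with indices in a set. -/
def grp (I : Set ℕ) : Subgroup P := closure (pR '' (I ∩ {i | i < 6}))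

/-- The indices at least `k`. -/
abbrev geI (k : ℕ) : Set ℕ := {i | k ≤ i}

/-- The indices of the second radical. -/
abbrev v2I : Set ℕ := {i | i ≠ 1}

/-- The unipotent group. -/
abbrev UP : Subgroup P := grp (geI 0)

/-- The first radical. -/
abbrev V1P : Subgroup P := grp (geI 1)

/-- The second radical. -/
abbrev V2P : Subgroup P := grp v2I

theorem pR_mem {I : Set ℕ} {i : ℕ} (hi : i < 6) (hI : i ∈ I) : pR i ∈ grp I :=
  subset_closure ⟨i, ⟨hI, hi⟩, rfl⟩

theorem grp_mono {I J : Set ℕ} (h : ∀ i, i < 6 → i ∈ I → i ∈ J) : grp I ≤ grp J :=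
  closure_mono (Set.image_mono fun i hi => ⟨h i hi.2 hi.1, hi.2⟩)

theorem grp_le_iff {I : Set ℕ} {H : Subgroup P} : grp I ≤ H ↔ ∀ i < 6, i ∈ I → pR i ∈ H := by
  rw [grp, closure_le]
  exact ⟨fun h i hi hI => h ⟨i, ⟨hI, hi⟩, rfl⟩, fun h => by rintro _ ⟨i, ⟨hI, hi⟩, rfl⟩; exact h i hi hI⟩

theorem mem_nz_grp {I : Set ℕ} {g : P} (h : ∀ i < 6, i ∈ I → g * pR i * g⁻¹ ∈ grp I) :
    g ∈ Nz (grp I) :=
  mem_nz_of_gens (by rintro _ ⟨i, ⟨hI, hi⟩, rfl⟩; exact h i hi hI)

theorem gW_low {i : ℕ} (hi : i < 6) : ∀ x ∈ gW i, x < 16 := by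
  refine lt_of_low (List.all_eq_true.1 gR_low _ ?_)
  rw [gW, List.getD_eq_getElem _ _ (show i < gR.length from hi)]
  exact List.getElem_mem _

theorem prodw_pw (w : List ℕ) : ∀ n, prodw pl (pw n w) = prodw pl w ^ n
  | 0 => by simp [pw, prodw]
  | n + 1 => by
    rw [pw, List.replicate_succ, List.flatten_cons, prodw_append, ← pw, prodw_pw w n, pow_succ']

theorem prodw_nf (e : List ℕ) : prodw pl (nf e) = pR 0 ^ e.getD 0 0 * pR 1 ^ e.getD 1 0 *
    pR 2 ^ e.getD 2 0 * pR 3 ^ e.getD 3 0 * pR 4 ^ e.getD 4 0 * pR 5 ^ e.getD 5 0 := by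
  simp only [nf, show List.range 6 = [0, 1, 2, 3, 4, 5] from rfl, List.map_cons, List.map_nil,
    List.flatten_cons, List.flatten_nil, List.append_nil, prodw_append, prodw_pw, pR, mul_assoc]

theorem nf_mem {I : Set ℕ} {e : List ℕ} (h : ∀ i < 6, i ∈ I ∨ e.getD i 0 = 0) :
    prodw pl (nf e) ∈ grp I := by
  have hp : ∀ i < 6, pR i ^ e.getD i 0 ∈ grp I := fun i hi => (h i hi).elim
    (fun hI => pow_mem (pR_mem hi hI) _) fun h0 => by rw [h0, pow_zero]; exact one_mem _
  rw [prodw_nf]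
  exact mul_mem (mul_mem (mul_mem (mul_mem (mul_mem (hp 0 (by norm_num)) (hp 1 (by norm_num)))
    (hp 2 (by norm_num))) (hp 3 (by norm_num))) (hp 4 (by norm_num))) (hp 5 (by norm_num))

theorem mem_of_okIn {k : ℕ} {w e : List ℕ} (h : okIn k w e = true) : prodw pl w ∈ grp (geI k) := by
  rw [okIn, Bool.and_eq_true] at h
  rw [eqW_pl h.2]
  refine nf_mem fun i _ => ?_
  rcases Nat.lt_or_ge i k with hik | hik
  · exact Or.inr (Nat.eq_of_beq_eq_true (List.all_eq_true.1 h.1 i (List.mem_range.2 hik)))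
  · exact Or.inl hik

theorem mem_of_okV2 {w e : List ℕ} (h : okV2 w e = true) : prodw pl w ∈ V2P := by
  rw [okV2, Bool.and_eq_true] at h
  rw [eqW_pl h.2]
  refine nf_mem fun i _ => ?_
  by_cases hi : i = 1
  · exact Or.inr (hi ▸ Nat.eq_of_beq_eq_true h.1)
  · exact Or.inl hi

theorem prodw_cj {g : List ℕ} (hg : ∀ x ∈ g, x < 16) (x : List ℕ) :
    prodw pl (cj g x) = prodw pl g * prodw pl x * (prodw pl g)⁻¹ := by
  rw [cj, prodw_append, prodw_append, prodw_pl_wi hg]

/-- The conjugation table. -/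
theorem conj_eq {k l : ℕ} (hkl : k < l) (hl : l < 6) :
    pR k * pR l * (pR k)⁻¹ = prodw pl (nf (cE' k l)) ∧ ∀ i ≤ k, (cE' k l).getD i 0 = 0 := by
  have h := List.all_eq_true.1 (List.all_eq_true.1 conj_ok l (List.mem_range.2 hl)) k
    (List.mem_range.2 hkl)
  rw [okIn, Bool.and_eq_true] at h
  refine ⟨?_, fun i hi => Nat.eq_of_beq_eq_true
    (List.all_eq_true.1 h.1 i (List.mem_range.2 (Nat.lt_succ_of_le hi)))⟩
  rw [← eqW_pl h.2, prodw_cj (gW_low (hkl.trans hl))]
  rfl

theorem pR_nz_succ {k : ℕ} (hk : k < 6) : pR k ∈ Nz (grp (geI (k + 1))) := by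
  refine mem_nz_grp fun l hl hkl => ?_
  obtain ⟨e, h⟩ := conj_eq (show k < l from hkl) hl
  rw [e]
  exact nf_mem fun i _ => (Nat.lt_or_ge k i).elim (fun h' => Or.inl h') fun h' => Or.inr (h i h')

theorem shape {k l : ℕ} (hkl : k < l) (hl : l < 6) (h1 : l ≠ 1) :
    (cE' k l).getD l 0 = 1 ∧ ∀ i < 6, i ≠ l → (i < if k = 0 then 3 else 5) → (cE' k l).getD i 0 = 0 := by
  have h := List.all_eq_true.1 (List.all_eq_true.1 shape_ok l (List.mem_range.2 hl)) k
    (List.mem_range.2 hkl)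
  rw [Bool.or_eq_true] at h
  have hne : ¬ Nat.beq l 1 = true := fun e => h1 (Nat.eq_of_beq_eq_true e)
  replace h := h.resolve_left hne
  rw [okShape, Bool.and_eq_true] at h
  refine ⟨Nat.eq_of_beq_eq_true h.1, fun i hi hil hlt => ?_⟩
  have h2 := List.all_eq_true.1 h.2 i (List.mem_range.2 hi)
  rw [Bool.or_eq_true] at h2
  replace h2 := h2.resolve_left fun e => hil (Nat.eq_of_beq_eq_true e)
  have hm : (bif Nat.beq k 0 then 3 else 5) = if k = 0 then 3 else 5 := by
    by_cases hk : k = 0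
    · subst hk; rfl
    · rw [if_neg hk]; obtain ⟨j, rfl⟩ := Nat.exists_eq_succ_of_ne_zero hk; rfl
  rw [hm, show Nat.blt i (if k = 0 then 3 else 5) = true by rw [Nat.blt_eq]; exact hlt] at h2
  exact Nat.eq_of_beq_eq_true h2

theorem cE05 : cE' 0 5 = [0, 0, 0, 0, 0, 1] := by decide +kernel

/-- Root elements normalise the deep subgroups. -/
theorem pR_nz_deep {m j : ℕ} (hm : m = 3 ∨ m = 5) (hj : j < 6) : pR j ∈ Nz (grp (geI m)) := by
  rcases Nat.lt_or_ge j m with hjm | hjm
  · refine mem_nz_grp fun l hl hml => ?_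
    have hml : m ≤ l := hml
    have hl1 : l ≠ 1 := by rcases hm with rfl | rfl <;> omega
    obtain ⟨e, h⟩ := conj_eq (show j < l by omega) hl
    rw [e]
    refine nf_mem fun i hi => ?_
    by_cases him : m ≤ i
    · exact Or.inl him
    · refine Or.inr ?_
      by_cases h0 : j = 0 ∧ m = 5
      · obtain ⟨rfl, rfl⟩ := h0
        obtain rfl : l = 5 := by omega
        rw [cE05]
        interval_cases i <;> first | rfl | omega
      · exact (shape (show j < l by omega) hl hl1).2 i hi (by omega) (by split <;> omega)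
  · exact le_normalizer (pR_mem hj hjm)

/-- Commutators of root elements lie deep. -/
theorem comm_deep {k l : ℕ} (hkl : k < l) (hl : l < 6) (h1 : l ≠ 1) :
    ⁅pR k, pR l⁆ ∈ grp (geI (if k = 0 then 3 else 5)) := by
  obtain ⟨e, h0⟩ := conj_eq hkl hl
  obtain ⟨he, h⟩ := shape hkl hl h1
  set m := if k = 0 then 3 else 5 with hmdef
  have hm : m = 3 ∨ m = 5 := by rw [hmdef]; split <;> simp
  rw [show ⁅pR k, pR l⁆ = prodw pl (nf (cE' k l)) * (pR l)⁻¹ by rw [← e, commutatorElement_def]]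
  rcases Nat.lt_or_ge l m with hlm | hlm
  · obtain ⟨x, hx, ex⟩ : ∃ x ∈ grp (geI m), prodw pl (nf (cE' k l)) = pR l * x := by
      refine ⟨pR 3 ^ (if l < 3 ∧ m ≤ 3 then (cE' k l).getD 3 0 else 0) *
        (pR 4 ^ (if l < 4 ∧ m ≤ 4 then (cE' k l).getD 4 0 else 0) * pR 5 ^ (cE' k l).getD 5 0),
        ?_, ?_⟩
      · refine mul_mem ?_ (mul_mem ?_ (pow_mem (pR_mem (by norm_num) (show m ≤ 5 by omega)) _))
        all_goals
          split
          · exact pow_mem (pR_mem (by norm_num) (by omega : m ≤ _)) _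
          · rw [pow_zero]; exact one_mem _
      · rcases hm with hm3 | hm5
        · have hl2 : l = 2 := by omega
          subst hl2
          rw [prodw_nf, he, h 0 (by norm_num) (by norm_num) (by omega),
            h 1 (by norm_num) (by norm_num) (by omega), hm3]
          simp [-List.getD_eq_getElem?_getD, mul_assoc]
        · have hz : ∀ i < 5, i ≠ l → (cE' k l).getD i 0 = 0 := fun i hi hil =>
            h i (by omega) hil (by omega)
          rw [prodw_nf, hm5]
          have : l = 2 ∨ l = 3 ∨ l = 4 := by omega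
          rcases this with rfl | rfl | rfl <;>
            simp [-List.getD_eq_getElem?_getD, he, hz 0 (by norm_num) (by norm_num), hz 1 (by norm_num) (by norm_num), hz 2, hz 3, hz 4]
    rw [ex]
    exact conj_mem_of_nz (pR_nz_deep hm hl) hx
  · refine mul_mem (nf_mem fun i hi => ?_) (inv_mem (pR_mem hl hlm))
    by_cases him : m ≤ i
    · exact Or.inl him
    · exact Or.inr (h i hi (by omega) (by omega))

theorem cE01 : cE' 0 1 = [0, 1, 4, 1, 1, 1] := by decide +kernel

theorem comm_deep' (_h : 0 < 1) : ⁅pR 0, pR 1⁆ ∈ grp (geI 2) := by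
  obtain ⟨e, -⟩ := conj_eq (show 0 < 1 by norm_num) (show 1 < 6 by norm_num)
  rw [commutatorElement_def, e, prodw_nf, cE01]
  have hx : pR 2 ^ 4 * (pR 3 * (pR 4 * pR 5)) ∈ grp (geI 2) :=
    mul_mem (pow_mem (pR_mem (by norm_num) (le_refl 2)) _) (mul_mem (pR_mem (by norm_num) (show 2 ≤ 3 by norm_num))
      (mul_mem (pR_mem (by norm_num) (show 2 ≤ 4 by norm_num)) (pR_mem (by norm_num) (show 2 ≤ 5 by norm_num))))
  simpa [mul_assoc] using conj_mem_of_nz (pR_nz_succ (show 1 < 6 by norm_num)) hx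

theorem pow_five {k : ℕ} (hk : k < 6) : pR k ^ 5 = 1 := by
  have h := eqW_pl (List.all_eq_true.1 pow_ok k (List.mem_range.2 hk))
  rwa [prodw_pw, prodw_nil] at h

/-- The set of points separating a root element from the later ones. -/
theorem pR_not_mem {k : ℕ} (hk : k < 6) : pR k ∉ grp (geI (k + 1)) := by
  have h := List.all_eq_true.1 wit_ok k (List.mem_range.2 hk)
  simp only [okWit, Bool.and_eq_true, Bool.not_eq_true', List.all_eq_true, Nat.blt_eq,
    Bool.or_eq_true, Nat.ble_eq, List.mem_range] at h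
  obtain ⟨hO, hne, hout⟩ := h
  set O := wit.getD k []
  obtain ⟨q, r, hqr⟩ := List.exists_cons_of_ne_nil (l := O) (by intro e; simp [e] at hne)
  have hq : q ∈ O := by rw [hqr]; exact List.mem_cons_self
  set S : Set Pt := {x | x.val ∈ O}
  intro hmem
  have hsub : grp (geI (k + 1)) ≤ (MulAction.stabilizer (Equiv.Perm Pt) S).comap act := by
    rw [grp_le_iff]
    intro l hl hkl
    have hkl : k < l := hkl
    rw [mem_comap, ← inv_mem_iff, MulAction.mem_stabilizer_set' S.toFinite]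
    intro x hx
    show ((act (pR l))⁻¹ x).val ∈ O
    rw [pR, act_word (gW_low hl)]
    exact List.contains_iff_mem.1 (((hO _ hx).2 l hl).resolve_left (by omega))
  have h2 : (act (pR k))⁻¹ ⟨q, (hO q hq).1⟩ ∈ S :=
    ((MulAction.mem_stabilizer_set' S.toFinite).1 (inv_mem (mem_comap.1 (hsub hmem)))) hq
  have h3 : ((act (pR k))⁻¹ ⟨q, (hO q hq).1⟩).val ∈ O := h2
  rw [pR, act_word (gW_low hk)] at h3
  rw [hqr, List.headD_cons, ← hqr] at hout
  rw [List.contains_iff_mem.2 h3] at hout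
  exact Bool.noConfusion hout

theorem grp_succ {k : ℕ} (hk : k < 6) :
    closure (insert (pR k) (grp (geI (k + 1)) : Set P)) = grp (geI k) := by
  refine le_antisymm ?_ (grp_le_iff.2 fun i hi hki => ?_)
  · rw [closure_le, Set.insert_subset_iff]
    exact ⟨pR_mem hk (le_refl k), grp_mono fun i _ (h : k + 1 ≤ i) => Nat.le_of_succ_le h⟩
  · rcases eq_or_lt_of_le (show k ≤ i from hki) with rfl | hlt
    · exact subset_closure (Set.mem_insert _ _)
    · exact subset_closure (Set.mem_insert_of_mem _ (pR_mem hi hlt))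

theorem card_grp : ∀ n ≤ 6, Nat.card (grp (geI (6 - n))) = 5 ^ n
  | 0, _ => by
    have : grp (geI (6 - 0)) = ⊥ := le_bot_iff.1 (grp_le_iff.2 fun i hi (h : 6 ≤ i) => absurd h (by omega))
    rw [this, card_bot, pow_zero]
  | n + 1, hn => by
    obtain ⟨k, hk, e⟩ : ∃ k, k < 6 ∧ 6 - (n + 1) = k ∧ 6 - n = k + 1 := ⟨6 - (n + 1), by omega, rfl, by omega⟩
    rw [e.1, ← grp_succ hk,
      card_closure_insert (pR_nz_succ hk) (by rw [pow_five hk]; exact one_mem _) (pR_not_mem hk),
      ← e.2, card_grp n (by omega), pow_succ']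

theorem card_UP : Nat.card UP = 15625 := card_grp 6 le_rfl

theorem card_V1P : Nat.card V1P = 3125 := card_grp 5 (by norm_num)

theorem UP_le_nz_V1 : UP ≤ Nz V1P := grp_le_iff.2 fun i hi _ => by
  rcases Nat.eq_zero_or_pos i with rfl | h
  · exact pR_nz_succ (by norm_num)
  · exact le_normalizer (pR_mem hi h)

theorem V1P_le : V1P ≤ UP := grp_mono fun i _ _ => Nat.zero_le i

theorem V2P_le : V2P ≤ UP := grp_mono fun i _ _ => Nat.zero_le i

theorem pR0_nz_two : pR 0 ∈ Nz (grp (geI 2)) := by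
  refine mem_nz_grp fun l hl h2 => ?_
  have h2 : 2 ≤ l := h2
  obtain ⟨e, h⟩ := conj_eq (show 0 < l by omega) hl
  rw [e]
  refine nf_mem fun i hi => ?_
  by_cases hi2 : 2 ≤ i
  · exact Or.inl hi2
  · exact Or.inr ((shape (show 0 < l by omega) hl (by omega)).2 i hi (by omega) (by simp; omega))

theorem V2P_eq : closure (insert (pR 0) (grp (geI 2) : Set P)) = V2P := by
  refine le_antisymm ?_ (grp_le_iff.2 fun i hi (h1 : i ≠ 1) => ?_)
  · rw [closure_le, Set.insert_subset_iff]
    exact ⟨pR_mem (by norm_num) (show 0 ≠ 1 by norm_num),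
      grp_mono fun i _ (h : 2 ≤ i) => show i ≠ 1 by omega⟩
  · rcases Nat.eq_zero_or_pos i with rfl | h
    · exact subset_closure (Set.mem_insert _ _)
    · exact subset_closure (Set.mem_insert_of_mem _ (pR_mem hi (show 2 ≤ i by omega)))

theorem card_V2P : Nat.card V2P = 3125 := by
  rw [← V2P_eq, card_closure_insert pR0_nz_two (by rw [pow_five (by norm_num)]; exact one_mem _)
    (fun h => pR_not_mem (k := 0) (by norm_num) (grp_mono (fun i _ (h' : 2 ≤ i) => show 0 + 1 ≤ i by omega) h)),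
    show Nat.card (grp (geI 2)) = 625 from card_grp 4 (by norm_num)]

theorem UP_le_nz_V2 : UP ≤ Nz V2P := grp_le_iff.2 fun i hi _ => by
  by_cases h : i = 1
  · subst h
    refine mem_nz_grp fun l hl (hl1 : l ≠ 1) => ?_
    rcases Nat.eq_zero_or_pos l with rfl | h
    · have hc := comm_deep' (show 0 < 1 by norm_num)
      rw [show pR 1 * pR 0 * (pR 1)⁻¹ = ⁅pR 0, pR 1⁆⁻¹ * pR 0 by
        rw [commutatorElement_def]; group]
      exact mul_mem (inv_mem (grp_mono (fun i _ (h : 2 ≤ i) => show i ≠ 1 by omega) hc))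
        (pR_mem (by norm_num) (show 0 ≠ 1 by norm_num))
    · obtain ⟨e, h'⟩ := conj_eq (show 1 < l by omega) hl
      rw [e]
      exact nf_mem fun j _ => (eq_or_ne j 1).elim (fun hj => Or.inr (h' j hj.le)) Or.inl
  · exact le_normalizer (pR_mem hi h)

end CfsgLib.LyOut
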