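import Cfsg.Agent.LyOut.Check
import Cfsg.Agent.LyMult.Lift

/-!
Identities in `Ly` for its automorphisms, checked in degree 111: elements of order eleven in the
wrong candidates, and the normal subgroup of order 125 in the remaining one.
-/

set_option autoImplicit false
set_option maxRecDepth 100000

namespace CfsgLib.LyOut

open CfsgLib.CosetEnum CfsgLib.LyG2 CfsgLib.LyCert CfsgLib.LyMult Cfsg.Spor

/-- A letter over sixteen generators and `z` as a word over five generators. -/
def conv1 (x : ℕ) : List ℕ :=
  match x with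
  | 8 => Rep.genWord .e
  | 9 => LyMult.inw (Rep.genWord .e)
  | 10 => Rep.genWord .c2
  | 11 => LyMult.inw (Rep.genWord .c2)
  | 12 => Rep.genWord .c3
  | 13 => LyMult.inw (Rep.genWord .c3)
  | 14 => Rep.genWord .c4
  | 15 => LyMult.inw (Rep.genWord .c4)
  | 16 => [8]
  | 17 => [9]
  | x => [x]

/-- A word over sixteen generators and `z` as a word over five generators. -/
def conv (w : List ℕ) : List ℕ := w.flatMap conv1

/-- The elements of order eleven. -/
def elevens : List (List ℕ) :=
  [0, 1, 3, 4, 5].map fun j => pw 11 ([16] ++ reps.getD j [] ++ hW.getD j [])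

/-- The exponents of the images of the generators of the group of order 125. -/
def wT : List (List ℕ) := [[0, 0, 0, 2, 2, 0], [0, 0, 0, 2, 4, 0], [0, 0, 0, 0, 0, 4]]

/-- The identities showing that the group of order 125 is normalised. -/
def wNorm : List (List ℕ) :=
  (List.range 3).map fun k =>
    [16] ++ reps.getD 2 [] ++ gW (k + 3) ++ LyCert.wi (reps.getD 2 []) ++ [17] ++
      LyCert.wi (nf (wT.getD k []))

theorem elevens_lt : (elevens.map conv).all (fun w => w.all fun x => Nat.blt x 10) = true := by
  decide +kernel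

theorem wNorm_lt : (wNorm.map conv).all (fun w => w.all fun x => Nat.blt x 10) = true := by
  decide +kernel

theorem hom_gw {x : ℕ} (hx : x < 18) : Rep.hom (gw x) = prodw Rep.letter (conv1 x) := by
  have hof : ∀ g : Ly.Gen, Rep.hom (toLy (FreeGroup.of g)) = prodw Rep.letter (Rep.genWord g) :=
    fun g => PresentedGroup.toGroup.of _
  have hinv : ∀ g : Ly.Gen, Rep.hom (toLy (FreeGroup.of g))⁻¹ =
      prodw Rep.letter (LyMult.inw (Rep.genWord g)) := fun g => by
    rw [map_inv, hof, show Rep.letter = lv (fun i => Rep.unitOf (Fin.ofNat 5 i)) from rfl, LyMult.prodw_inw]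
  interval_cases x
  exacts [hof .a, hinv .a, hof .b, hinv .b, hof .c, hinv .c, hof .d, hinv .d, hof .e, hinv .e,
    hof .c2, hinv .c2, hof .c3, hinv .c3, hof .c4, hinv .c4, hof .z, hinv .z]

theorem hom_prodw_gw : ∀ {w : List ℕ}, (∀ x ∈ w, x < 18) →
    Rep.hom (prodw gw w) = prodw Rep.letter (conv w)
  | [], _ => by simp [prodw, conv]
  | x :: w, h => by
    rw [prodw_cons, map_mul, hom_gw (h x List.mem_cons_self),
      hom_prodw_gw fun y hy => h y (List.mem_cons_of_mem x hy), conv, conv, List.flatMap_cons,
      prodw_append]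

theorem gw_one [IsSimpleGroup Cfsg.Spor.Ly] {ws : List (List ℕ)}
    (hc : chkWords 111 Rep.tabs (ws.map conv) = true)
    (hl : (ws.map conv).all (fun w => w.all fun x => Nat.blt x 10) = true) {w : List ℕ}
    (hm : w ∈ ws) (h18 : ∀ x ∈ w, x < 18) : prodw gw w = 1 := by
  refine LyMult.hom_injective ?_
  have hm' : conv w ∈ ws.map conv := List.mem_map_of_mem hm
  rw [hom_prodw_gw h18, map_one]
  refine Units.ext ?_
  rw [Rep.coe_prodw fun x hx =>
    Nat.le_of_ble_eq_true (List.all_eq_true.1 (List.all_eq_true.1 hl _ hm') x hx)]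
  exact Rep.word_one hc hl hm'

end CfsgLib.LyOut
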